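import Cfsg.Agent.SubThree.Distance

/-!
# The structure of the stabiliser
-/

set_option autoImplicit false
set_option linter.unusedSectionVars false
set_option linter.unusedVariables false

namespace Cfsg.Agent.SubThree

open MulAction

/-- the five possible stabilisers -/
def Five (H : Type*) [Group H] : Prop :=
  Nonempty (H ≃* Multiplicative (ZMod 3)) ∨ Nonempty (H ≃* Equiv.Perm (Fin 3)) ∨
    Nonempty (H ≃* DihedralGroup 6) ∨ Nonempty (H ≃* Equiv.Perm (Fin 4)) ∨
    Nonempty (H ≃* Equiv.Perm (Fin 4) × Multiplicative (ZMod 2))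

/-- a group of order twelve generated by an element of order six and an inverting involution -/
theorem dihedral_six {H : Type*} [Group H] [Finite H] (hc : Nat.card H = 12) (u z : H)
    (hu : orderOf u = 6) (hz : z * z = 1) (hinv : z * u * z⁻¹ = u⁻¹) (hne : ¬ Commute z u) :
    Nonempty (H ≃* DihedralGroup 6) := by
  set p : ZMod 6 → H := fun i => u ^ i.val with hp
  have hadd : ∀ i j, p (i + j) = p i * p j := by
    intro i j
    simp only [hp, ← pow_add, pow_eq_pow_iff_modEq, hu, ZMod.val_add]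
    exact Nat.mod_modEq _ _
  have hp0 : p 0 = 1 := by simp [hp]
  have hneg : ∀ i, p (-i) = (p i)⁻¹ := fun i =>
    eq_inv_of_mul_eq_one_left (by rw [← hadd, neg_add_cancel, hp0])
  have hzi : z⁻¹ = z := inv_eq_of_mul_eq_one_right hz
  have hswap : ∀ i, p i * z = z * p (-i) := by
    intro i
    have h1 : z * p i * z⁻¹ = (p i)⁻¹ := by
      change z * u ^ i.val * z⁻¹ = (u ^ i.val)⁻¹
      rw [← conj_pow, hinv, inv_pow]
    rw [hneg, ← h1, hzi, ← mul_assoc, ← mul_assoc, hz, one_mul]
  let f : DihedralGroup 6 → H := fun d => match d with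
    | .r i => p i
    | .sr i => z * p i
  let F : DihedralGroup 6 →* H := MonoidHom.mk' f (by
    rintro (i | i) (j | j)
    · exact hadd i j
    · change z * p (j - i) = p i * (z * p j)
      rw [← mul_assoc, hswap, mul_assoc, ← hadd, sub_eq_neg_add]
    · change z * p (i + j) = z * p i * p j
      rw [hadd, mul_assoc]
    · change p (j - i) = z * p i * (z * p j)
      rw [← mul_assoc, mul_assoc z, hswap, ← mul_assoc, hz, one_mul, ← hadd, sub_eq_neg_add])
  have hinj : Function.Injective F := by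
    rw [injective_iff_map_eq_one]
    rintro (i | i) hi
    · change u ^ i.val = 1 at hi
      rw [← orderOf_dvd_iff_pow_eq_one, hu] at hi
      have : i.val = 0 := Nat.eq_zero_of_dvd_of_lt hi (ZMod.val_lt i)
      rw [(ZMod.val_eq_zero i).mp this]
      exact DihedralGroup.r_zero
    · exfalso
      refine hne ?_
      change z * u ^ i.val = 1 at hi
      rw [eq_inv_of_mul_eq_one_left hi]
      exact ((Commute.refl u).pow_left _).inv_left
  refine ⟨(MulEquiv.ofBijective F ((Nat.bijective_iff_injective_and_card _).mpr ⟨hinj, ?_⟩)).symm⟩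
  rw [hc, DihedralGroup.nat_card]

variable {G Ω : Type*} [Group G] [MulAction G Ω] [Finite G] {q : ℕ}

theorem two_pow_not_dvd_three {G' : Type*} [Group G'] [Finite G'] {P : Subgroup G'} {k : ℕ}
    (hP : Nat.card P = 2 ^ k) {x : G'} (h3 : x ^ 3 = 1) (hx : x ∈ P) : x = 1 := by
  have h1 : orderOf x ∣ 2 ^ k := hP ▸ P.orderOf_dvd_natCard hx
  have h2 : orderOf x ∣ 3 := orderOf_dvd_of_pow_eq_one h3
  exact orderOf_eq_one_iff.mp
    (Nat.eq_one_of_dvd_coprimes ((by norm_num : Nat.Coprime 2 3).pow_left k) h1 h2)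

namespace Ctx

variable (C : Ctx G Ω q)
include C

theorem exists_phi (a : Ω) :
    ∃ φ : stabilizer G a →* Equiv.Perm (Fin 3),
      ∀ x, φ x = 1 ↔ (x : G) ∈ (N q a : Subgroup G) := by
  obtain ⟨P, hP⟩ := C.exists_line a
  set P' := P.subgroupOf (stabilizer G a)
  have hi : Nat.card (stabilizer G a ⧸ P') = 3 := by
    have e1 := card_mul_relIndex hP.1
    rw [hP.2, C.card_st a, mul_comm 3] at e1
    exact Nat.eq_of_mul_eq_mul_left C.q_pos e1
  obtain ⟨e⟩ : Nonempty ((stabilizer G a ⧸ P') ≃ Fin 3) := Finite.card_eq.mp (by simpa using hi)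
  refine ⟨e.permCongrHom.toMonoidHom.comp (MulAction.toPermHom _ _), fun x => ?_⟩
  rw [MonoidHom.comp_apply, MulEquiv.coe_toMonoidHom, MulEquiv.map_eq_one_iff,
    ← MonoidHom.mem_ker, ← Subgroup.normalCore_eq_ker, C.normalCore_eq hP, Subgroup.mem_subgroupOf]

theorem exists_t (a : Ω) : ∃ t ∈ stabilizer G a, t ^ 3 = 1 ∧ t ≠ 1 ∧
    ∀ Q ∈ (L q a : Set (Subgroup G)), t ∉ Q ∧ cj t Q ≠ Q := by
  have : Fact (Nat.Prime 3) := ⟨Nat.prime_three⟩
  obtain ⟨t, ht⟩ := exists_prime_orderOf_dvd_card' (G := stabilizer G a) 3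
    (by rw [C.card_st a]; exact dvd_mul_right 3 q)
  have h3 : (t : G) ^ 3 = 1 := by
    rw [← SubgroupClass.coe_pow, ← ht, pow_orderOf_eq_one]
    rfl
  have h1 : (t : G) ≠ 1 := by
    intro h
    rw [orderOf_eq_one_iff.mpr (Subtype.ext h)] at ht
    omega
  refine ⟨t, t.2, h3, h1, fun Q hQ => ?_⟩
  obtain ⟨k, hk⟩ := C.two
  have hn : (t : G) ∉ Q := fun h => h1 (two_pow_not_dvd_three (hQ.2.trans hk) h3 h)
  exact ⟨hn, fun h => hn (C.eq_of_normalizes hQ t.2 h)⟩

theorem small (hA : ∀ a : Ω, ∀ P ∈ (L q a : Set (Subgroup G)), ¬ Z P ≤ N q a) (a : Ω) :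
    Five (stabilizer G a) := by
  obtain ⟨P, hP⟩ := C.exists_line a
  obtain ⟨c, hne, hc⟩ := C.exists_mate hP
  -- the intersection of the two cores is normal in both stabilisers
  have key : ∀ x y : Ω, P ∈ L q x → P ∈ L q y →
      stabilizer G x ≤ Subgroup.normalizer ((N q x ⊓ N q y : Subgroup G) : Set G) := by
    intro x y hx hy
    have hPn : P ≤ Subgroup.normalizer ((N q x ⊓ N q y : Subgroup G) : Set G) :=
      le_normalizer_of fun g hg w hw =>
        ⟨conj_mem_of_le_normalizer (stab_le_normalizer_N x) (hx.1 hg) hw.1,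
         conj_mem_of_le_normalizer (stab_le_normalizer_N y) (hy.1 hg) hw.2⟩
    obtain ⟨P', hP', hne'⟩ := C.exists_other hx
    obtain ⟨z, hz, hzN⟩ := SetLike.not_le_iff_exists.mp (hA x P' hP')
    rw [← C.sup_eq hx hP' hne']
    refine sup_le hPn fun g hg => ?_
    by_cases hgN : g ∈ (N q x : Subgroup G)
    · exact hPn (C.N_le hx hgN)
    · have h1 : z⁻¹ * g ∈ (N q x : Subgroup G) :=
        mul_mem_two (C.N_le hP') (C.card_line hP') (inv_mem hz.1) hg
          (fun h => hzN (inv_mem_iff.mp h)) hgN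
      have h2 : z ∈ Subgroup.normalizer ((N q x ⊓ N q y : Subgroup G) : Set G) := by
        rw [Subgroup.mem_normalizer_iff]
        intro w
        constructor
        · intro hw
          rwa [← hz.2.2 w (C.N_le hP' hw.1), mul_inv_cancel_right]
        · intro hw
          have h3 := hz.2.2 _ (C.N_le hP' hw.1)
          have h4 : z * w * z⁻¹ = w := by
            calc z * w * z⁻¹ = z⁻¹ * (z * (z * w * z⁻¹)) := by group
              _ = z⁻¹ * ((z * w * z⁻¹) * z) := by rw [h3]
              _ = w := by group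
          rwa [h4] at hw
      have := Subgroup.mul_mem _ h2 (hPn (C.N_le hx h1))
      simpa using this
  have hT : (N q a ⊓ N q c : Subgroup G) = ⊥ := by
    refine C.eq_bot hne (inf_le_left.trans inf_le_left) (key a c hP hc) ?_
    rw [inf_comm]
    exact key c a hc hP
  have hN2 : Nat.card (N q a : Subgroup G) ≤ 2 := by
    have h1 : Nat.card (↥(N q a : Subgroup G) × ↥(N q c : Subgroup G)) ≤ Nat.card P := by
      refine Nat.card_le_card_of_injective
        (fun p => ⟨(p.1 : G) * (p.2 : G), P.mul_mem (C.N_le hP p.1.2) (C.N_le hc p.2.2)⟩) ?_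
      intro p r hpr
      replace hpr := congrArg Subtype.val hpr
      simp only at hpr
      have h3 : (r.1 : G)⁻¹ * p.1 = r.2 * (p.2 : G)⁻¹ := by
        calc (r.1 : G)⁻¹ * p.1 = (r.1 : G)⁻¹ * (p.1 * p.2) * (p.2 : G)⁻¹ := by group
          _ = (r.1 : G)⁻¹ * (r.1 * r.2) * (p.2 : G)⁻¹ := by rw [hpr]
          _ = _ := by group
      have h4 : (r.1 : G)⁻¹ * p.1 ∈ (N q a ⊓ N q c : Subgroup G) :=
        ⟨(N q a).mul_mem ((N q a).inv_mem r.1.2) p.1.2,
          h3 ▸ (N q c).mul_mem r.2.2 ((N q c).inv_mem p.2.2)⟩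
      rw [hT, Subgroup.mem_bot] at h4
      have h5 : (p.1 : G) = r.1 := (inv_mul_eq_one.mp h4).symm
      refine Prod.ext (Subtype.ext h5) (Subtype.ext ?_)
      rw [h5] at hpr
      exact mul_left_cancel hpr
    have h2 := C.card_line hc
    rw [Nat.card_prod, C.card_line hP] at h1
    rw [C.card_line hP] at h2
    rw [show Nat.card (N q c : Subgroup G) = Nat.card (N q a : Subgroup G) by omega] at h1
    exact Nat.le_of_mul_le_mul_right h1 Nat.card_pos
  have hNpos : 0 < Nat.card (N q a : Subgroup G) := Nat.card_pos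
  have hq := C.two_card_N hP
  obtain ⟨φ, hφ⟩ := C.exists_phi a
  rcases (by omega : Nat.card (N q a : Subgroup G) = 1 ∨ Nat.card (N q a : Subgroup G) = 2) with h | h
  · refine Or.inr (Or.inl ⟨MulEquiv.ofBijective φ ((Nat.bijective_iff_injective_and_card _).mpr ⟨?_, ?_⟩)⟩)
    · rw [injective_iff_map_eq_one]
      intro x hx
      have hN := (hφ x).mp hx
      rw [Subgroup.eq_bot_of_card_eq _ h, Subgroup.mem_bot] at hN
      exact Subtype.ext hN
    · rw [C.card_st a, Nat.card_perm, Nat.card_fin, ← hq, h]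
      rfl
  · obtain ⟨t, ht, ht3, ht1, htQ⟩ := C.exists_t a
    obtain ⟨z, hz, hzN⟩ := SetLike.not_le_iff_exists.mp (hA a P hP)
    obtain ⟨n, hn, hn1⟩ : ∃ n ∈ (N q a : Subgroup G), n ≠ 1 := by
      by_contra hh
      push Not at hh
      have : (N q a : Subgroup G) = ⊥ := (Subgroup.eq_bot_iff_forall _).mpr hh
      rw [this, Subgroup.card_bot] at h
      omega
    have honly : ∀ x ∈ (N q a : Subgroup G), x = 1 ∨ x = n := by
      intro x hx
      by_contra hh
      push Not at hh
      have hs : ({1, n, x} : Set G) ⊆ ((N q a : Subgroup G) : Set G) := by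
        rintro y (rfl | rfl | rfl) <;> simp_all
      have := Set.ncard_le_ncard hs (Set.toFinite _)
      rw [← Nat.card_coe_set_eq ((N q a : Subgroup G) : Set G)] at this
      simp only [SetLike.coe_sort_coe, h] at this
      rw [Set.ncard_insert_of_notMem (by simp [hn1.symm, hh.1.symm]), Set.ncard_pair hh.2.symm] at this
      omega
    have hn2 : n * n = 1 := (honly _ (mul_mem hn hn)).resolve_right (fun e => hn1 (by simpa using e))
    have hncen : ∀ x ∈ stabilizer G a, x * n = n * x := by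
      intro x hx
      rcases honly _ (conj_mem_of_le_normalizer (stab_le_normalizer_N a) hx hn) with e | e
      · exact absurd (conj_eq_one_iff.mp e) hn1
      · exact mul_inv_eq_iff_eq_mul.mp e
    have hza : z ∈ stabilizer G a := hP.1 hz.1
    have hzt : z * t * z⁻¹ = t⁻¹ := by
      have key : ∀ σ τ : Equiv.Perm (Fin 3), σ ^ 3 = 1 → σ ≠ 1 → τ * τ = 1 → τ ≠ 1 →
          τ * σ * τ⁻¹ = σ⁻¹ := by decide
      set t' : stabilizer G a := ⟨t, ht⟩
      set z' : stabilizer G a := ⟨z, hza⟩
      have h1 : φ (z' * t' * z'⁻¹ * t') = 1 := by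
        rw [map_mul, map_mul, map_mul, map_inv,
          key (φ t') (φ z') (by rw [← map_pow, show t' ^ 3 = 1 from Subtype.ext ht3, map_one])
            (fun e => (htQ P hP).1 (C.N_le hP ((hφ t').mp e)))
            (by rw [← map_mul, show z' * z' = 1 from Subtype.ext hz.2.1, map_one])
            (fun e => hzN ((hφ z').mp e)), inv_mul_cancel]
      have h2 : z * t * z⁻¹ * t ∈ (N q a : Subgroup G) := (hφ _).mp h1
      rcases honly _ h2 with e | e
      · exact eq_inv_of_mul_eq_one_left e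
      · exfalso
        have e' : z * t * z⁻¹ = n * t⁻¹ := eq_mul_inv_of_mul_eq e
        have h4 : (z * t * z⁻¹) ^ 3 = 1 := by
          rw [conj_pow, ht3, mul_one, mul_inv_cancel]
        have hc' : Commute n t⁻¹ := (show Commute t n from hncen t ht).symm.inv_right
        rw [e', hc'.mul_pow, inv_pow, ht3, inv_one, mul_one, pow_succ, pow_two, hn2, one_mul] at h4
        exact hn1 h4
    refine Or.inr (Or.inr (Or.inl (dihedral_six ?_ (⟨t * n, mul_mem ht (inf_le_left (a := stabilizer G a) hn)⟩ : stabilizer G a)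
      ⟨z, hza⟩ ?_ (Subtype.ext hz.2.1) ?_ ?_)))
    · rw [C.card_st a, ← hq, h]
    · rw [← Subgroup.orderOf_coe]
      change orderOf (t * n) = 6
      have h2' : orderOf n = 2 := orderOf_eq_prime (by rwa [pow_two]) hn1
      have h3' : orderOf t = 3 := orderOf_eq_prime ht3 ht1
      rw [(show Commute t n from hncen t ht).orderOf_mul_eq_mul_orderOf_of_coprime
        (by rw [h2', h3']; norm_num), h2', h3']
    · apply Subtype.ext
      change z * (t * n) * z⁻¹ = (t * n)⁻¹
      rw [mul_inv_rev, show n⁻¹ = n from inv_eq_of_mul_eq_one_right hn2,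
        show z * (t * n) * z⁻¹ = (z * t * z⁻¹) * (z * n * z⁻¹) by group, hzt, hncen z hza,
        mul_inv_cancel_right]
      exact hncen _ (inv_mem ht)
    · intro hcm
      have e : z * (t * n) = (t * n) * z := congrArg Subtype.val hcm
      have e2 : z * t = t * z := by
        rw [mul_assoc t, ← hncen z hza, ← mul_assoc, ← mul_assoc] at e
        exact mul_right_cancel e
      rw [e2, mul_inv_cancel_right] at hzt
      apply ht1
      rw [pow_succ, pow_two] at ht3
      nth_rewrite 2 [hzt] at ht3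
      simpa using ht3

theorem N_eq_V (hB : InN G Ω q) (a : Ω) : (N q a : Subgroup G) = V q a ∧
    ∃ P ∈ (L q a : Set (Subgroup G)), ∃ u ∈ P, u ∉ (N q a : Subgroup G) ∧ u * u = 1 := by
  obtain ⟨a₀, c₀, hadj₀, hcrit₀⟩ := C.exists_crit hB
  obtain ⟨g, hg⟩ := C.trans.exists_smul_eq a₀ a
  set c := g • c₀ with hc₀
  have hadj : Adj G q a c := hg ▸ hadj₀.smul g
  have hcrit : ¬ (V q a : Subgroup G) ≤ N q c := by
    intro h
    refine hcrit₀ fun x hx => ?_
    have := conj_mem_N g⁻¹ (h (hg ▸ conj_mem_V g hx))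
    rw [hc₀, inv_smul_smul] at this
    simpa [mul_assoc] using this
  obtain ⟨hP, hPc⟩ := C.line_mem hadj
  set P := line G a c
  have hVa : (V q a : Subgroup G) ≤ P := (C.V_le_N hB a).trans (C.N_le hP)
  have hVc : (V q c : Subgroup G) ≤ P := (C.V_le_N hB c).trans (C.N_le hPc)
  have hcrit' : ¬ (V q c : Subgroup G) ≤ N q a := fun h =>
    hcrit (C.crit_symm hB (hVc.trans hP.1) (hVa.trans hPc.1) h)
  obtain ⟨v, hv, hvN⟩ := SetLike.not_le_iff_exists.mp hcrit
  obtain ⟨u, hu, huN⟩ := SetLike.not_le_iff_exists.mp hcrit'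
  set I : Subgroup G := N q a ⊓ N q c with hI
  -- squares
  have sqs : ∀ (x y : Ω) (w : G), P ∈ L q x → P ∈ L q y → w ∈ (V q x : Subgroup G) →
      w ∉ (N q y : Subgroup G) → ∀ n ∈ (N q x : Subgroup G),
        ∃ i ∈ (N q x ⊓ N q y : Subgroup G), n * n = i * i := by
    intro x y w hx hy hw hwy n hn
    by_cases hny : n ∈ (N q y : Subgroup G)
    · exact ⟨n, ⟨hn, hny⟩, rfl⟩
    · refine ⟨w * n, ⟨(N q x).mul_mem (C.V_le_N hB x hw) hn, ?_⟩, ?_⟩
      · exact mul_mem_two (C.N_le hy) (C.card_line hy) (C.N_le hx (C.V_le_N hB x hw))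
          (C.N_le hx hn) hwy hny
      · rw [mul_assoc w, ← mul_assoc n, C.N_comm hn hw, mul_assoc w n, ← mul_assoc,
          C.V_sq hB hw, one_mul]
  set S := Subgroup.closure {x : G | ∃ i ∈ I, x = i * i} with hS
  have hSn : ∀ (x y : Ω) (w : G), P ∈ L q x → P ∈ L q y → w ∈ (V q x : Subgroup G) →
      w ∉ (N q y : Subgroup G) → (N q x ⊓ N q y : Subgroup G) = I →
        stabilizer G x ≤ Subgroup.normalizer (S : Set G) := by
    intro x y w hx hy hw hwy hxy
    refine le_normalizer_of fun h hh s hs => ?_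
    induction hs using Subgroup.closure_induction with
    | mem s hs =>
      obtain ⟨i, hi, rfl⟩ := hs
      rw [← hxy] at hi
      obtain ⟨j, hj, e⟩ := sqs x y w hx hy hw hwy _
        (conj_mem_of_le_normalizer (stab_le_normalizer_N x) hh hi.1)
      refine Subgroup.subset_closure ⟨j, hxy ▸ hj, ?_⟩
      rw [← e]
      group
    | one => simp
    | mul y w _ _ hy hw =>
      rw [show h * (y * w) * h⁻¹ = (h * y * h⁻¹) * (h * w * h⁻¹) by group]
      exact mul_mem hy hw
    | inv y _ hy =>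
      rw [show h * y⁻¹ * h⁻¹ = (h * y * h⁻¹)⁻¹ by group]
      exact inv_mem hy
  have hSb : S = ⊥ := by
    refine C.eq_bot hadj.1 ?_ (hSn a c v hP hPc hv hvN rfl) (hSn c a u hPc hP hu huN (inf_comm _ _))
    refine (Subgroup.closure_le _).mpr ?_
    rintro x ⟨i, hi, rfl⟩
    exact (stabilizer G a).mul_mem hi.1.1 hi.1.1
  have hIsq : ∀ i ∈ I, i * i = 1 := fun i hi =>
    Subgroup.mem_bot.mp (hSb ▸ Subgroup.subset_closure ⟨i, hi, rfl⟩)
  have hsq : ∀ n ∈ (N q a : Subgroup G), n * n = 1 := by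
    intro n hn
    obtain ⟨i, hi, e⟩ := sqs a c v hP hPc hv hvN n hn
    rw [e, hIsq i hi]
  have hsqc : ∀ n ∈ (N q c : Subgroup G), n * n = 1 := by
    intro n hn
    obtain ⟨i, hi, e⟩ := sqs c a u hPc hP hu huN n hn
    rw [e, hIsq i ⟨hi.2, hi.1⟩]
  have comm : ∀ (X : Subgroup G), (∀ n ∈ X, n * n = 1) → ∀ x ∈ X, ∀ y ∈ X, x * y = y * x := by
    intro X hX x hx y hy
    have e := inv_eq_of_mul_eq_one_right (hX _ (mul_mem hx hy))
    rw [mul_inv_rev, inv_eq_of_mul_eq_one_right (hX x hx), inv_eq_of_mul_eq_one_right (hX y hy)] at e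
    exact e.symm
  have hIZ : I ≤ Z P := by
    intro i hi
    refine ⟨C.N_le hP hi.1, hIsq i hi, fun y hy => ?_⟩
    by_cases hyN : y ∈ (N q a : Subgroup G)
    · exact comm _ hsq y hyN i hi.1
    · have h1 : u⁻¹ * y ∈ (N q a : Subgroup G) :=
        mul_mem_two (C.N_le hP) (C.card_line hP) (inv_mem (hVc hu)) hy
          (fun h => huN (inv_mem_iff.mp h)) hyN
      have e1 := comm _ hsq _ h1 i hi.1
      have e2 := comm _ hsqc u (C.V_le_N hB c hu) i hi.2
      calc y * i = u * ((u⁻¹ * y) * i) := by group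
        _ = u * (i * (u⁻¹ * y)) := by rw [e1]
        _ = u * i * (u⁻¹ * y) := by group
        _ = i * u * (u⁻¹ * y) := by rw [e2]
        _ = i * y := by group
  refine ⟨le_antisymm (fun n hn => ?_) (C.V_le_N hB a), P, hP, u, hVc hu, huN, C.V_sq hB hu⟩
  by_cases hnc : n ∈ (N q c : Subgroup G)
  · exact Z_le_V hP (hIZ ⟨hn, hnc⟩)
  · have h1 : v * n ∈ I := ⟨(N q a).mul_mem (C.V_le_N hB a hv) hn,
      mul_mem_two (C.N_le hPc) (C.card_line hPc) (hVa hv) (C.N_le hP hn) hvN hnc⟩
    have := (V q a).mul_mem ((V q a).inv_mem hv) (Z_le_V hP (hIZ h1))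
    simpa using this

theorem big (hB : InN G Ω q) (a : Ω) : Five (stabilizer G a) := by
  classical
  obtain ⟨hNV, P, hP, u, hu, huN, hu2⟩ := C.N_eq_V hB a
  obtain ⟨k, hk⟩ := C.two
  set H := stabilizer G a with hH
  set W₀ : Subgroup G := V q a with hV
  set D : Subgroup G := Cp q a with hD
  have hDV : D ≤ W₀ := inf_le_left
  have hD0 : 0 < Nat.card D := Nat.card_pos
  have hD2 : Nat.card D ≤ 2 := C.card_Cp_le hB a
  have hcardH : Nat.card H = 24 * Nat.card D := by
    have h1 := C.card_st a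
    have h2 := C.two_card_N hP
    have h3 := C.card_V hB hP
    have h4 := C.card_Z hB hP
    rw [hNV, h3, h4] at h2
    rw [h1, ← h2]
    ring
  obtain ⟨P', hP', hne'⟩ := C.exists_other hP
  obtain ⟨hP'', hn1, hn2⟩ := C.swap hP hP' hne' hu huN
  -- every element of the module lies in some `Z Q`
  have hcover : ∀ v ∈ W₀, ∃ Q ∈ (L q a : Set (Subgroup G)), v ∈ Z Q := by
    intro v hv
    by_contra hcon
    push Not at hcon
    obtain ⟨y, hy, hyC⟩ : ∃ y ∈ Z P, y ∉ D := by
      exact ⟨zf q a P, C.zf_mem hB hP, C.zf_notin hB hP⟩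
    have hy1 : y ∉ Z P' := fun h => hyC (by
      rw [hD, ← C.Z_inf hB hP hP' hne']
      exact ⟨hy, h⟩)
    have hy2 : y ∉ Z (cj u P') := fun h => hyC (by
      rw [hD, ← C.Z_inf hB hP hP'' hn1]
      exact ⟨hy, h⟩)
    have h1 : v * y ∈ Z P' ⊓ Z (cj u P') :=
      ⟨C.Z_mul_mem hB hP' hv (Z_le_V hP hy) (hcon P' hP') hy1,
       C.Z_mul_mem hB hP'' hv (Z_le_V hP hy) (hcon _ hP'') hy2⟩
    rw [C.Z_inf hB hP' hP'' hn2] at h1
    exact hcon P hP (((Z P).mul_mem_cancel_right hy).mp (C.Cp_le_Z hB hP h1))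
  obtain ⟨t, ht, ht3, ht1, htQ⟩ := C.exists_t a
  have hto : orderOf t = 3 := orderOf_eq_prime ht3 ht1
  have hfixed : ∀ v ∈ W₀, t * v = v * t → v ∈ D := by
    intro v hv he
    obtain ⟨Q, hQ, hvQ⟩ := hcover v hv
    have hQ' : cj t Q ∈ L q a := by
      have := cj_mem_L t hQ
      rwa [show t • a = a from ht] at this
    rw [hD, ← C.Z_inf hB hQ hQ' (htQ Q hQ).2]
    refine ⟨hvQ, ?_⟩
    have := conj_mem_Z t hvQ
    rwa [he, mul_inv_cancel_right] at this
  set T := Subgroup.zpowers t with hT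
  have hTV : ∀ x ∈ T, x ∈ W₀ → x = 1 := by
    intro x hx hxV
    have h2 : x ^ 3 = 1 := by
      obtain ⟨i, rfl⟩ := Subgroup.mem_zpowers_iff.mp hx
      rw [← zpow_natCast, ← zpow_mul, mul_comm, zpow_mul, zpow_natCast, ht3, one_zpow]
    exact two_pow_not_dvd_three (hP.2.trans hk) h2 (C.N_le hP (C.V_le_N hB a hxV))
  set NT : Subgroup G := H ⊓ Subgroup.normalizer (T : Set G) with hNT
  have hNTD : W₀ ⊓ NT = D := by
    refine le_antisymm (fun v hv => hfixed v hv.1 ?_) (fun v hv => ⟨hDV hv, ?_, ?_⟩)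
    · have h1 : v * t * v⁻¹ * t⁻¹ ∈ T :=
        mul_mem (conj_mem_of_le_normalizer le_rfl hv.2.2 (Subgroup.mem_zpowers t))
          (inv_mem (Subgroup.mem_zpowers t))
      have h2 : v * t * v⁻¹ * t⁻¹ ∈ W₀ := by
        rw [show v * t * v⁻¹ * t⁻¹ = v * (t * v⁻¹ * t⁻¹) by group]
        exact W₀.mul_mem hv.1
          (conj_mem_of_le_normalizer (stab_le_normalizer_V a) ht (W₀.inv_mem hv.1))
      have h3 := hTV _ h1 h2
      calc t * v = (v * t * v⁻¹ * t⁻¹)⁻¹ * (v * t) := by group
        _ = v * t := by rw [h3, inv_one, one_mul]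
    · exact C.V_le_stab hB a (hDV hv)
    · refine Subgroup.mem_normalizer_iff.mpr fun x => ?_
      have hTH : T ≤ H := Subgroup.zpowers_le.mpr ht
      constructor
      · intro hx
        rwa [← (mem_Cp.mp hv).2 x (hTH hx), mul_inv_cancel_right]
      · intro hx
        have e := (mem_Cp.mp hv).2 _ (hTH hx)
        have : v * x * v⁻¹ = x := by
          calc v * x * v⁻¹ = v⁻¹ * (v * (v * x * v⁻¹)) := by group
            _ = v⁻¹ * ((v * x * v⁻¹) * v) := by rw [e]
            _ = x := by group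
        rwa [this] at hx
  obtain ⟨hsyl, hr⟩ : Nat.card NT = 6 * Nat.card D ∧ True := by
    refine ⟨?_, trivial⟩
    have hVH : W₀.relIndex H = 6 := by
      have h1 := card_mul_relIndex (C.V_le_stab hB a)
      have h3 := C.card_V hB hP
      have h4 := C.card_Z hB hP
      rw [show Nat.card W₀ = 4 * Nat.card D by rw [hV, h3, h4]; ring, ← hH, hcardH] at h1
      exact Nat.eq_of_mul_eq_mul_left (by omega) (h1.trans (by ring))
    have h2 := card_mul_relIndex (inf_le_right : W₀ ⊓ NT ≤ NT)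
    rw [Subgroup.inf_relIndex_right, hNTD] at h2
    have hrle : W₀.relIndex NT ≤ 6 :=
      hVH ▸ Subgroup.relIndex_le_of_le_right (inf_le_left : NT ≤ H) (by omega)
    have : Fact (Nat.Prime 3) := ⟨Nat.prime_three⟩
    set T' : Subgroup H := T.subgroupOf H with hT'
    have hT'c : Nat.card T' = 3 := by
      rw [Nat.card_congr (Subgroup.subgroupOfEquivOfLe (Subgroup.zpowers_le.mpr ht)).toEquiv,
        Nat.card_zpowers, hto]
    have hidx : ¬ 3 ∣ T'.index := by
      have h3 := T'.card_mul_index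
      rw [hT'c, hcardH] at h3
      intro hd
      have h4 : T'.index = 8 * Nat.card D := by omega
      rw [h4] at hd
      rcases (by omega : Nat.card D = 1 ∨ Nat.card D = 2) with e | e <;> rw [e] at hd <;> omega
    set S : Sylow 3 H := (IsPGroup.of_card (hT'c.trans (pow_one 3).symm)).toSylow hidx
    have hn := card_sylow_modEq_one (p := 3) (G := H)
    have hn' := S.card_eq_index_normalizer
    have hnorm : Subgroup.normalizer (((S : Sylow 3 H) : Subgroup H) : Set H) = NT.subgroupOf H := by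
      change Subgroup.normalizer (T' : Set H) = _
      ext x
      rw [Subgroup.mem_normalizer_iff, Subgroup.mem_subgroupOf, hNT, Subgroup.mem_inf,
        Subgroup.mem_normalizer_iff]
      constructor
      · intro h
        refine ⟨x.2, fun y => ⟨fun hy => ?_, fun hy => ?_⟩⟩
        · have := (h ⟨y, Subgroup.zpowers_le.mpr ht hy⟩).mp hy
          exact this
        · have hyH : y ∈ H := by
            have := H.mul_mem (H.mul_mem (H.inv_mem x.2) (Subgroup.zpowers_le.mpr ht hy)) x.2
            simpa [mul_assoc] using this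
          exact (h ⟨y, hyH⟩).mpr hy
      · rintro ⟨-, h⟩ y
        exact h y
    rw [show Subgroup.normalizer (S : Set H) = NT.subgroupOf H from hnorm] at hn'
    have h5 := (NT.subgroupOf H).card_mul_index
    rw [← hn', Nat.card_congr (Subgroup.subgroupOfEquivOfLe (inf_le_left : NT ≤ H)).toEquiv,
      ← h2, hcardH, mul_assoc, mul_comm 24] at h5
    have h6 := Nat.eq_of_mul_eq_mul_left hD0 h5
    rw [← h2]
    have h7 : W₀.relIndex NT = 6 := by
      set r := W₀.relIndex NT
      set m := Nat.card (Sylow 3 H)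
      rw [Nat.ModEq] at hn
      interval_cases r <;> omega
    rw [h7, mul_comm]
  -- an involution inverting `t`
  obtain ⟨g, hgNT, hgN⟩ : ∃ g ∈ NT, g ∉ (N q a : Subgroup G) ∧ ∃ j, g ^ (2 ^ j) = 1 := by
    have : Fact (Nat.Prime 2) := ⟨Nat.prime_two⟩
    obtain ⟨j, hj⟩ : ∃ j, 2 * Nat.card D = 2 ^ j := by
      rcases (by omega : Nat.card D = 1 ∨ Nat.card D = 2) with e | e <;> rw [e]
      · exact ⟨1, rfl⟩
      · exact ⟨2, rfl⟩
    obtain ⟨Q, hQ⟩ := Sylow.exists_subgroup_card_pow_prime (G := NT) 2 (n := j)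
      (by rw [hsyl, ← hj]; exact ⟨3, by ring⟩)
    obtain ⟨x, hx, hxD⟩ : ∃ x ∈ Q, (x : G) ∉ D := by
      by_contra hh
      push Not at hh
      have : Q ≤ D.subgroupOf NT := hh
      have h1 := Subgroup.card_le_of_le this
      rw [hQ, ← hj, Nat.card_congr (Subgroup.subgroupOfEquivOfLe
        (show D ≤ NT from hNTD ▸ inf_le_right)).toEquiv] at h1
      omega
    refine ⟨x, x.2, fun h => hxD (hNTD ▸ ⟨hNV ▸ h, x.2⟩), j, ?_⟩
    have h1 : (⟨x, hx⟩ : Q) ^ (2 ^ j) = 1 := hQ ▸ pow_card_eq_one'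
    exact congrArg (fun y : Q => ((y : NT) : G)) h1
  obtain ⟨hgN, j, hgj⟩ := hgN
  obtain ⟨Q, hQ, hgQ⟩ : ∃ Q ∈ (L q a : Set (Subgroup G)), g ∈ Q := by
    have : Fact (Nat.Prime 2) := ⟨Nat.prime_two⟩
    set R : Subgroup H := Subgroup.zpowers ⟨g, hgNT.1⟩
    have hR : IsPGroup 2 R := by
      rintro ⟨y, hy⟩
      obtain ⟨i, rfl⟩ := Subgroup.mem_zpowers_iff.mp hy
      refine ⟨j, Subtype.ext (Subtype.ext ?_)⟩
      simp only [SubgroupClass.coe_pow, SubgroupClass.coe_zpow, OneMemClass.coe_one]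
      rw [← zpow_natCast, ← zpow_mul, mul_comm, zpow_mul, zpow_natCast, hgj, one_zpow]
    have hi : Nat.card (H ⧸ P.subgroupOf H) = 3 := by
      have e1 := card_mul_relIndex hP.1
      rw [hP.2, C.card_st a, mul_comm 3] at e1
      exact Nat.eq_of_mul_eq_mul_left C.q_pos e1
    obtain ⟨c, hc⟩ := hR.nonempty_fixed_point_of_prime_not_dvd_card (H ⧸ P.subgroupOf H)
      (by rw [hi]; decide)
    obtain ⟨h, rfl⟩ := QuotientGroup.mk_surjective c
    refine ⟨cj (h : G) P, ?_, mem_cj.mpr ?_⟩
    · have := cj_mem_L (h : G) hP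
      rwa [show (h : G) • a = a from h.2] at this
    · have h1 := hc ⟨_, Subgroup.mem_zpowers _⟩
      change (((⟨g, hgNT.1⟩ : H) * h : H) : H ⧸ P.subgroupOf H) = _ at h1
      simpa [Subgroup.mem_subgroupOf, mul_assoc] using QuotientGroup.eq.mp h1.symm
  have hgt : g * t * g⁻¹ = t⁻¹ := by
    have h1 : g * t * g⁻¹ ∈ T := conj_mem_of_le_normalizer le_rfl hgNT.2 (Subgroup.mem_zpowers t)
    obtain ⟨i, hi, e⟩ := Finset.mem_image.mp ((mem_zpowers_iff_mem_range_orderOf).mp h1)
    rw [hto, Finset.mem_range] at hi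
    have hQ' : cj t Q ∈ L q a := by
      have := cj_mem_L t hQ
      rwa [show t • a = a from ht] at this
    interval_cases i
    · rw [pow_zero] at e
      exact absurd (conj_eq_one_iff.mp e.symm) ht1
    · exfalso
      rw [pow_one] at e
      have e' : g * t = t * g := mul_inv_eq_iff_eq_mul.mp e.symm
      refine hgN ?_
      rw [← C.inter_eq hQ hQ' (htQ Q hQ).2]
      refine ⟨hgQ, mem_cj.mpr ?_⟩
      rw [mul_assoc, e', inv_mul_cancel_left]
      exact hgQ
    · rw [← e]
      exact eq_inv_of_mul_eq_one_left (by rw [← pow_succ, ht3])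
  have hg2 : g * g = 1 := by
    obtain ⟨hN', P₁, hP₁, u₁, hu₁, hu₁N, hu₁2⟩ := C.N_eq_V hB a
    obtain ⟨h, hh, hhQ⟩ := C.exists_conj hP₁ hQ
    set u' := h * u₁ * h⁻¹ with hu'
    have hu'Q : u' ∈ Q := hhQ ▸ conj_mem_cj hu₁
    have hu'N : u' ∉ (N q a : Subgroup G) := fun e => hu₁N (by
      have := conj_mem_of_le_normalizer (stab_le_normalizer_N a) (H.inv_mem hh) e
      simpa [hu', mul_assoc] using this)
    have hu'2 : u' * u' = 1 := by
      rw [hu', show h * u₁ * h⁻¹ * (h * u₁ * h⁻¹) = h * (u₁ * u₁) * h⁻¹ by group, hu₁2]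
      group
    obtain ⟨n, hn, rfl⟩ : ∃ n ∈ (N q a : Subgroup G), g = u' * n :=
      ⟨u'⁻¹ * g, mul_mem_two (C.N_le hQ) (C.card_line hQ) (inv_mem hu'Q) hgQ
        (fun e => hu'N (inv_mem_iff.mp e)) hgN, by group⟩
    rw [hNV] at hn
    have e : u' * n * (u' * n) = u' * n * u'⁻¹ * n⁻¹ := by
      rw [inv_eq_of_mul_eq_one_right hu'2, C.V_inv hB hn]
      group
    by_cases hnZ : n ∈ Z Q
    · rw [e, hnZ.2.2 u' hu'Q]
      group
    · exfalso
      refine C.zf_notin hB hQ ?_
      rw [← C.zf_eq hB hQ hn hnZ hu'Q hu'N, ← e, ← hD, ← hNTD]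
      refine ⟨?_, NT.mul_mem hgNT hgNT⟩
      rw [← hNV]
      exact mul_mem_two (C.N_le hQ) (C.card_line hQ) hgQ hgQ hgN hgN
  -- the action on the four conjugates
  have hidx4 : Nat.card (H ⧸ NT.subgroupOf H) = 4 := by
    have h1 := card_mul_relIndex (inf_le_left : NT ≤ H)
    rw [hsyl, hcardH] at h1
    change (NT.subgroupOf H).index = 4
    have h2 : NT.relIndex H = 4 := Nat.eq_of_mul_eq_mul_left (by omega : 0 < 6 * Nat.card D)
      (h1.trans (by ring))
    exact h2
  obtain ⟨e4⟩ : Nonempty ((H ⧸ NT.subgroupOf H) ≃ Fin 4) := Finite.card_eq.mp (by simpa using hidx4)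
  set φ : H →* Equiv.Perm (Fin 4) := e4.permCongrHom.toMonoidHom.comp (MulAction.toPermHom _ _)
  have hker : ∀ x : H, φ x = 1 → (x : G) ∈ D := by
    intro x hx
    rw [MonoidHom.comp_apply, MulEquiv.coe_toMonoidHom, MulEquiv.map_eq_one_iff,
      ← MonoidHom.mem_ker, ← Subgroup.normalCore_eq_ker] at hx
    have hcm : ∀ v ∈ W₀, (x : G) * v * (x : G)⁻¹ * v⁻¹ ∈ D := by
      intro v hv
      set v' : H := ⟨v, C.V_le_stab hB a hv⟩
      have h1 : x * v' * x⁻¹ * v'⁻¹ ∈ (NT.subgroupOf H).normalCore := by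
        rw [mul_assoc, mul_assoc, ← mul_assoc v']
        exact mul_mem hx ((Subgroup.normalCore_normal _).conj_mem _ (inv_mem hx) v')
      rw [← hNTD]
      refine ⟨?_, (Subgroup.normalCore_le _ h1 : _)⟩
      exact W₀.mul_mem (conj_mem_of_le_normalizer (stab_le_normalizer_V a) x.2 hv) (W₀.inv_mem hv)
    have hxN : (x : G) ∈ (N q a : Subgroup G) := by
      refine mem_N.mpr ⟨x.2, fun R hR => ?_⟩
      by_contra hxR
      have hR' : cj (x : G) R ∈ L q a := by
        have := cj_mem_L (x : G) hR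
        rwa [show (x : G) • a = a from x.2] at this
      refine hxR (C.eq_of_normalizes hR x.2 (C.Z_inj hB hR hR' ?_))
      refine Subgroup.eq_of_le_of_card_ge ?_ (by rw [Z_cj, card_cj])
      rw [Z_cj]
      rintro _ ⟨v, hv, rfl⟩
      simp only [MulEquiv.coe_toMonoidHom, MulAut.conj_apply]
      rw [show (x : G) * v * (x : G)⁻¹ = ((x : G) * v * (x : G)⁻¹ * v⁻¹) * v by group]
      exact (Z R).mul_mem (C.Cp_le_Z hB hR (hcm v (Z_le_V hR hv))) hv
    rw [← hNTD]
    exact ⟨hNV ▸ hxN, (Subgroup.normalCore_le (NT.subgroupOf H) hx : _)⟩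
  rcases (by omega : Nat.card D = 1 ∨ Nat.card D = 2) with e1 | e2
  · refine Or.inr (Or.inr (Or.inr (Or.inl ⟨MulEquiv.ofBijective φ
      ((Nat.bijective_iff_injective_and_card _).mpr ⟨?_, ?_⟩)⟩)))
    · rw [injective_iff_map_eq_one]
      intro x hx
      have := hker x hx
      rw [Subgroup.eq_bot_of_card_eq _ e1, Subgroup.mem_bot] at this
      exact Subtype.ext this
    · rw [hcardH, Nat.card_perm, Nat.card_fin, e1]
      rfl
  -- the splitting
  let W : Subgroup G :=
    { carrier := {w | w = 1 ∨ ∃ R ∈ (L q a : Set (Subgroup G)), w = zf q a R}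
      one_mem' := Or.inl rfl
      mul_mem' := by
        rintro w₁ w₂ (rfl | ⟨R, hR, rfl⟩) (rfl | ⟨R', hR', rfl⟩)
        · exact Or.inl (one_mul 1)
        · exact Or.inr ⟨R', hR', one_mul _⟩
        · exact Or.inr ⟨R, hR, mul_one _⟩
        · by_cases hRR : R' = R
          · subst hRR
            exact Or.inl (C.zf_mem hB hR').2.1
          · obtain ⟨h, hh, hh'⟩ := C.exists_not_N hR
            obtain ⟨hL, -, -⟩ := C.swap hR hR' hRR hh hh'
            refine Or.inr ⟨_, hL, ?_⟩
            have e := C.zf_cj hB hR' h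
            rw [show h • a = a from hR.1 hh] at e
            have hnot : zf q a R' ∉ Z R := fun hm => C.zf_notin hB hR' (by
              rw [← C.Z_inf hB hR hR' hRR]
              exact ⟨hm, C.zf_mem hB hR'⟩)
            rw [e, show h * zf q a R' * h⁻¹
              = (h * zf q a R' * h⁻¹ * (zf q a R')⁻¹) * zf q a R' by group,
              C.zf_eq hB hR (Z_le_V hR' (C.zf_mem hB hR')) hnot hh hh']
      inv_mem' := by
        rintro w (rfl | ⟨R, hR, rfl⟩)
        · exact Or.inl inv_one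
        · exact Or.inr ⟨R, hR, inv_eq_of_mul_eq_one_right (C.zf_mem hB hR).2.1⟩ }
  set S := Subgroup.closure ({t, g} : Set G) with hS
  have hSform : ∀ s ∈ S, ∃ i : ℕ, s = t ^ i ∨ s = t ^ i * g := by
    have hgi : g⁻¹ = g := inv_eq_of_mul_eq_one_right hg2
    have hgp : ∀ i : ℕ, g * t ^ i = t ^ (2 * i) * g := by
      intro i
      have h1 : g * t ^ i * g⁻¹ = (t⁻¹) ^ i := by rw [← conj_pow, hgt]
      rw [pow_mul, ← (eq_inv_of_mul_eq_one_left (by rw [← pow_succ, ht3]) : t ^ 2 = t⁻¹)] at *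
      exact mul_inv_eq_iff_eq_mul.mp h1
    intro s hs
    induction hs using Subgroup.closure_induction with
    | mem x hx =>
      rcases hx with rfl | hx
      · exact ⟨1, Or.inl (pow_one _).symm⟩
      · exact ⟨0, Or.inr (by rw [pow_zero, one_mul]; exact hx)⟩
    | one => exact ⟨0, Or.inl (pow_zero _).symm⟩
    | mul x y _ _ hx hy =>
      obtain ⟨i, rfl | rfl⟩ := hx <;> obtain ⟨l, rfl | rfl⟩ := hy
      · exact ⟨i + l, Or.inl (pow_add _ _ _).symm⟩
      · exact ⟨i + l, Or.inr (by rw [pow_add, mul_assoc])⟩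
      · exact ⟨i + 2 * l, Or.inr (by rw [mul_assoc, hgp, ← mul_assoc, pow_add])⟩
      · exact ⟨i + 2 * l, Or.inl (by
          rw [mul_assoc, ← mul_assoc g, hgp, mul_assoc _ g g, hg2, mul_one, pow_add])⟩
    | inv x _ hx =>
      obtain ⟨i, rfl | rfl⟩ := hx
      · exact ⟨2 * i, Or.inl (inv_eq_of_mul_eq_one_right (by
          rw [← pow_add, show i + 2 * i = 3 * i by ring, pow_mul, ht3, one_pow]))⟩
      · exact ⟨i, Or.inr (inv_eq_of_mul_eq_one_right (by
          rw [mul_assoc, ← mul_assoc g, hgp, mul_assoc _ g g, hg2, mul_one, ← pow_add,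
            show i + 2 * i = 3 * i by ring, pow_mul, ht3, one_pow]))⟩
  have hSle : S ≤ NT := by
    refine (Subgroup.closure_le _).mpr ?_
    rintro x (rfl | rfl)
    · exact ⟨ht, Subgroup.le_normalizer (Subgroup.mem_zpowers _)⟩
    · exact hgNT
  have hSH : S ≤ H := hSle.trans inf_le_left
  have hWV : ∀ w ∈ W, w ∈ W₀ := by
    rintro w (rfl | ⟨R, hR, rfl⟩)
    · exact one_mem _
    · exact Z_le_V hR (C.zf_mem hB hR)
  have hWn : H ≤ Subgroup.normalizer (W : Set G) := le_normalizer_of fun h hh w hw => by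
    rcases hw with rfl | ⟨R, hR, rfl⟩
    · simp
    · refine Or.inr ⟨cj h R, ?_, ?_⟩
      · have := cj_mem_L h hR
        rwa [show h • a = a from hh] at this
      · have e := C.zf_cj hB hR h
        rw [show h • a = a from hh] at e
        exact e.symm
  have hWH : W ≤ H := fun w hw => C.V_le_stab hB a (hWV w hw)
  set X : Subgroup G := W ⊔ S with hX
  have hXH : X ≤ H := sup_le hWH hSH
  have hXD : ∀ x ∈ X, x ∈ D → x = 1 := by
    intro x hx hxD
    rw [hX, ← SetLike.mem_coe,
      Subgroup.coe_mul_of_right_le_normalizer_left W S (hSH.trans hWn)] at hx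
    obtain ⟨w, hw, s, hs, rfl⟩ := Set.mem_mul.mp hx
    have hsV : s ∈ W₀ := by
      have := W₀.mul_mem (W₀.inv_mem (hWV w hw)) (hDV hxD)
      simpa using this
    have hs1 : s = 1 := by
      obtain ⟨i, rfl | rfl⟩ := hSform s hs
      · exact hTV _ (Subgroup.npow_mem_zpowers t i) hsV
      · exfalso
        rw [← hNV] at hsV
        have h1 : t ^ i ∈ Q := (Q.mul_mem_cancel_right hgQ).mp (C.N_le hQ hsV)
        have h2 : t ^ i = 1 := two_pow_not_dvd_three (hQ.2.trans hk)
          (by rw [← pow_mul, mul_comm, pow_mul, ht3, one_pow]) h1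
        rw [h2, one_mul] at hsV
        exact hgN hsV
    subst hs1
    rw [mul_one] at hxD ⊢
    rcases hw with rfl | ⟨R, hR, rfl⟩
    · rfl
    · exact absurd hxD (C.zf_notin hB hR)
  have hgen : H ≤ X ⊔ D := by
    have hV' : W₀ ≤ X ⊔ D := by
      intro v hv
      obtain ⟨R, hR, hvR⟩ := hcover v hv
      by_cases hvD : v ∈ D
      · exact (le_sup_right : D ≤ X ⊔ D) hvD
      · have h1 : v * zf q a R ∈ D :=
          mul_mem_two (C.Cp_le_Z hB hR) (C.card_Z hB hR) hvR (C.zf_mem hB hR) hvD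
            (C.zf_notin hB hR)
        have h2 : zf q a R ∈ X ⊔ D :=
          (le_sup_left : X ≤ X ⊔ D) ((le_sup_left : W ≤ X) (Or.inr ⟨R, hR, rfl⟩))
        exact ((X ⊔ D).mul_mem_cancel_right h2).mp ((le_sup_right : D ≤ X ⊔ D) h1)
    have hg' : g ∈ X ⊔ D := (le_sup_left : X ≤ X ⊔ D) ((le_sup_right : S ≤ X)
      (Subgroup.subset_closure (Or.inr rfl)))
    have ht' : t ∈ X ⊔ D := (le_sup_left : X ≤ X ⊔ D) ((le_sup_right : S ≤ X)
      (Subgroup.subset_closure (Or.inl rfl)))
    have hQle : Q ≤ X ⊔ D := by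
      intro y hy
      by_cases hyN : y ∈ (N q a : Subgroup G)
      · exact hV' (hNV ▸ hyN)
      · have h1 := mul_mem_two (C.N_le hQ) (C.card_line hQ) hgQ hy hgN hyN
        exact ((X ⊔ D).mul_mem_cancel_left hg').mp (hV' (hNV ▸ h1))
    have hQ' : cj t Q ∈ L q a := by
      have := cj_mem_L t hQ
      rwa [show t • a = a from ht] at this
    rw [hH, ← C.sup_eq hQ hQ' (htQ Q hQ).2]
    refine sup_le hQle ?_
    rintro _ ⟨y, hy, rfl⟩
    exact mul_mem (mul_mem ht' (hQle hy)) (inv_mem ht')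
  have hcomm : ∀ (x : X) (d : D), Commute (x : G) (d : G) := fun x d => (mem_Cp.mp d.2).2 _ (hXH x.2)
  set f : X × D →* G := MonoidHom.noncommCoprod X.subtype D.subtype hcomm
  have hrange : f.range = H := by
    refine le_antisymm ?_ (hgen.trans (sup_le (fun x hx => ⟨(⟨x, hx⟩, 1), ?_⟩) (fun d hd => ⟨(1, ⟨d, hd⟩), ?_⟩)))
    · rintro _ ⟨p, rfl⟩
      exact H.mul_mem (hXH p.1.2) (C.V_le_stab hB a (hDV p.2.2))
    · exact mul_one x
    · exact one_mul d
  have hinj : Function.Injective f := by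
    rw [injective_iff_map_eq_one]
    rintro ⟨x, d⟩ h
    have h' : (x : G) * (d : G) = 1 := h
    have hx : (x : G) = 1 := hXD x x.2 (by
      rw [eq_inv_of_mul_eq_one_left h']
      exact inv_mem d.2)
    rw [hx, one_mul] at h'
    exact Prod.ext (Subtype.ext hx) (Subtype.ext h')
  let eH : X × D ≃* H := (MonoidHom.ofInjective hinj).trans (MulEquiv.subgroupCongr hrange)
  have hcX : Nat.card X = 24 := by
    have h1 := Nat.card_congr eH.toEquiv
    rw [Nat.card_prod, hcardH, e2] at h1
    omega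
  let ψ : X →* Equiv.Perm (Fin 4) := φ.comp (Subgroup.inclusion hXH)
  have hψ : Function.Bijective ψ := by
    refine (Nat.bijective_iff_injective_and_card _).mpr ⟨?_, by rw [hcX, Nat.card_perm, Nat.card_fin]; rfl⟩
    rw [injective_iff_map_eq_one]
    intro x hx
    exact Subtype.ext (hXD x x.2 (hker _ hx))
  have : Fact (Nat.Prime 2) := ⟨Nat.prime_two⟩
  have eD : D ≃* Multiplicative (ZMod 2) := mulEquivOfPrimeCardEq e2 (by simp)
  exact Or.inr (Or.inr (Or.inr (Or.inr ⟨eH.symm.trans ((MulEquiv.ofBijective ψ hψ).prodCongr eD)⟩)))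

end Ctx

/-- A primitive group with a suborbit of length three. -/
theorem stabilizer_five {G Ω : Type*} [Group G] [Finite G] [MulAction G Ω] [FaithfulSMul G Ω]
    (hprim : MulAction.IsPreprimitive G Ω) (a b : Ω)
    (h3 : Nat.card (MulAction.orbit (MulAction.stabilizer G a) b) = 3) :
    Five (stabilizer G a) := by
  classical
  have htr : MulAction.IsPretransitive G Ω := hprim.toIsPretransitive
  have hne : a ≠ b := by
    rintro rfl
    have : MulAction.orbit (MulAction.stabilizer G a) a = {a} := by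
      ext x
      simp only [MulAction.mem_orbit_iff, Set.mem_singleton_iff]
      refine ⟨fun ⟨g, hg⟩ => hg ▸ g.2, fun h => ⟨1, by rw [one_smul, h]⟩⟩
    rw [this] at h3
    simp at h3
  have : Nontrivial Ω := ⟨⟨a, b, hne⟩⟩
  set D := stabilizer G a ⊓ stabilizer G b with hD
  set q := Nat.card D with hq
  have hidx : D.relIndex (stabilizer G a) = 3 := by
    have e1 : D.subgroupOf (stabilizer G a) = MulAction.stabilizer (stabilizer G a) b := by
      ext ⟨g, hg⟩
      simp [hD, Subgroup.mem_subgroupOf, hg]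
    rw [Subgroup.relIndex, e1, MulAction.index_stabilizer, ← Nat.card_coe_set_eq, h3]
  have hcard : ∀ x : Ω, Nat.card (stabilizer G x) = 3 * q := by
    intro x
    obtain ⟨g, rfl⟩ := MulAction.exists_smul_eq G a x
    rw [← cj_stab, card_cj, ← card_mul_relIndex (inf_le_left : D ≤ stabilizer G a), hidx, hq, mul_comm]
  have hfaith : ∀ g : G, (∀ x : Ω, g • x = x) → g = 1 := fun g hg =>
    eq_of_smul_eq_smul (α := Ω) fun x => by rw [hg x, one_smul]
  have hqpos : 0 < q := Nat.card_pos
  have hmax : ∀ x y : Ω, x ≠ y → stabilizer G x ⊔ stabilizer G y = ⊤ := by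
    intro x y hxy
    have hm : IsCoatom (stabilizer G x) :=
      (MulAction.isCoatom_stabilizer_iff_preprimitive G x).mpr hprim
    by_cases hle : stabilizer G y ≤ stabilizer G x
    · exfalso
      have he : stabilizer G y = stabilizer G x :=
        Subgroup.eq_of_le_of_card_ge hle (by rw [hcard, hcard])
      obtain ⟨g, hg⟩ := MulAction.exists_smul_eq G x y
      have hgn : g ∈ Subgroup.normalizer ((stabilizer G x : Subgroup G) : Set G) := by
        rw [Subgroup.mem_normalizer_iff]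
        intro h
        conv_rhs => rw [← he, ← hg, ← cj_stab, mem_cj]
        simp [mul_assoc]
      have htop : Subgroup.normalizer ((stabilizer G x : Subgroup G) : Set G) = ⊤ :=
        hm.2 _ (lt_of_le_of_ne Subgroup.le_normalizer fun h => hxy (by
          have : g • x = x := by rw [← h] at hgn; exact hgn
          rw [← hg, this]))
      have hbot : stabilizer G x = ⊥ := by
        refine (Subgroup.eq_bot_iff_forall _).mpr fun h hh => hfaith h fun z => ?_
        obtain ⟨s, rfl⟩ := MulAction.exists_smul_eq G x z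
        have h1 : (s⁻¹ * h * s) • x = x := by
          have := conj_mem_of_le_normalizer (A := (⊤ : Subgroup G)) htop.ge (Subgroup.mem_top s⁻¹) hh
          simpa using this
        rwa [mul_smul, mul_smul, inv_smul_eq_iff] at h1
      have := hcard x
      rw [hbot, Subgroup.card_bot] at this
      omega
    · exact hm.2 _ (lt_of_le_of_ne le_sup_left fun h => hle (h ▸ le_sup_right))
  -- the intersection is a 2-group
  have hDb : Nat.card (stabilizer G b) = 3 * Nat.card D := hcard b
  have htwo : ∃ k, q = 2 ^ k := by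
    set O := Subgroup.closure {x : G | x ∈ D ∧ Odd (orderOf x)} with hO
    have hOn : ∀ H : Subgroup G, D ≤ H → Nat.card H = 3 * Nat.card D →
        H ≤ Subgroup.normalizer (O : Set G) := by
      intro H hle hc
      refine le_normalizer_of fun g hg x hx => ?_
      induction hx using Subgroup.closure_induction with
      | mem y hy =>
        refine Subgroup.subset_closure ⟨odd_mem_of_index_three hle hc hy.1 hy.2 hg, ?_⟩
        have : orderOf (g * y * g⁻¹) = orderOf y :=
          orderOf_injective (MulAut.conj g).toMonoidHom (MulAut.conj g).injective y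
        rw [this]
        exact hy.2
      | one => simp
      | mul y w _ _ hy hw =>
        rw [show g * (y * w) * g⁻¹ = (g * y * g⁻¹) * (g * w * g⁻¹) by group]
        exact mul_mem hy hw
      | inv y _ hy =>
        rw [show g * y⁻¹ * g⁻¹ = (g * y * g⁻¹)⁻¹ by group]
        exact inv_mem hy
    have hOle : O ≤ stabilizer G a := (Subgroup.closure_le _).mpr fun x hx => hx.1.1
    have hna := hOn _ inf_le_left (hcard a)
    have hnb := hOn _ inf_le_right hDb
    have hOb : O = ⊥ := by
      have htop : (⊤ : Subgroup G) ≤ Subgroup.normalizer (O : Set G) := by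
        rw [← hmax a b hne]
        exact sup_le hna hnb
      refine (Subgroup.eq_bot_iff_forall _).mpr fun g hg => hfaith g fun x => ?_
      obtain ⟨h, rfl⟩ := MulAction.exists_smul_eq G a x
      have h2 : (h⁻¹ * g * h) • a = a := by
        have := hOle (conj_mem_of_le_normalizer htop (Subgroup.mem_top h⁻¹) hg)
        simpa using this
      rwa [mul_smul, mul_smul, inv_smul_eq_iff] at h2
    refine ⟨q.factorization 2, ?_⟩
    apply Nat.eq_pow_of_factorization_eq_single hqpos.ne'
    ext p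
    rcases eq_or_ne p 2 with rfl | hp
    · simp
    rw [Finsupp.single_eq_of_ne hp]
    by_contra h0
    have hpd : p ∣ q := Nat.dvd_of_factorization_pos h0
    have hpp : p.Prime := Nat.prime_of_mem_primeFactors (by
      rw [← Nat.support_factorization]; exact Finsupp.mem_support_iff.mpr h0)
    have : Fact p.Prime := ⟨hpp⟩
    obtain ⟨x, hx⟩ := exists_prime_orderOf_dvd_card' (G := D) p hpd
    have hodd : Odd (orderOf (x : G)) := by
      rw [Subgroup.orderOf_coe, hx]
      exact hpp.odd_of_ne_two hp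
    have : (x : G) ∈ O := Subgroup.subset_closure ⟨x.2, hodd⟩
    rw [hOb, Subgroup.mem_bot] at this
    rw [← Subgroup.orderOf_coe, this, orderOf_one] at hx
    exact hpp.one_lt.ne hx
  obtain ⟨k, hk⟩ := htwo
  by_cases hn : ∀ x : Ω, ∀ P ∈ (L q x : Set (Subgroup G)),
      ¬ stabilizer G x ≤ Subgroup.normalizer (P : Set G)
  · have C : Ctx G Ω q :=
      ⟨htr, hfaith, hmax, ⟨k, hk⟩, hcard, hn, a, b, hne, D,
        ⟨inf_le_left, hq.symm⟩, ⟨inf_le_right, hq.symm⟩⟩
    rcases C.inN_or with hB | hA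
    · exact C.big hB a
    · exact C.small hA a
  · -- a normal line forces the order three
    push Not at hn
    obtain ⟨x, P, hP, hPn⟩ := hn
    have hnorm : ∀ y : Ω, ∀ R ∈ (L q y : Set (Subgroup G)),
        stabilizer G y ≤ Subgroup.normalizer (R : Set G) := by
      intro y R hR
      obtain ⟨g, rfl⟩ := MulAction.exists_smul_eq G x y
      have h1 : cj g P ∈ L q (g • x) := cj_mem_L g hP
      have h2 : stabilizer G (g • x) ≤ Subgroup.normalizer ((cj g P : Subgroup G) : Set G) := by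
        refine le_normalizer_of fun h hh w hw => ?_
        rw [← cj_stab, mem_cj] at hh
        rw [mem_cj] at hw ⊢
        simpa [mul_assoc] using conj_mem_of_le_normalizer hPn hh hw
      -- there is only one line
      suffices R = cj g P from this ▸ h2
      set H := stabilizer G (g • x)
      have h4 : R ⊔ cj g P ≤ H := sup_le hR.1 h1.1
      have hnormal : ((cj g P).subgroupOf H).Normal :=
        (Subgroup.normal_subgroupOf_iff_le_normalizer h1.1).mpr h2
      have hsup : IsPGroup 2 ↥(R.subgroupOf H ⊔ (cj g P).subgroupOf H : Subgroup H) := by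
        refine IsPGroup.to_sup_of_normal_right (IsPGroup.of_card (n := k) ?_) (IsPGroup.of_card (n := k) ?_)
        · rw [Nat.card_congr (Subgroup.subgroupOfEquivOfLe hR.1).toEquiv, hR.2, hk]
        · rw [Nat.card_congr (Subgroup.subgroupOfEquivOfLe h1.1).toEquiv, h1.2, hk]
      obtain ⟨j, hj⟩ := IsPGroup.iff_card.mp hsup
      have hdvd : 2 ^ j ∣ 3 * 2 ^ k := by
        rw [← hj, ← hk, ← hcard (g • x)]
        exact Subgroup.card_subgroup_dvd_card _
      have hjk : 2 ^ j ≤ 2 ^ k := Nat.le_of_dvd (Nat.two_pow_pos k)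
        ((Nat.Coprime.pow_left j (by norm_num : Nat.Coprime 2 3)).dvd_of_dvd_mul_left hdvd)
      have e1 : R.subgroupOf H = R.subgroupOf H ⊔ (cj g P).subgroupOf H :=
        Subgroup.eq_of_le_of_card_ge le_sup_left (by
          rw [hj, Nat.card_congr (Subgroup.subgroupOfEquivOfLe hR.1).toEquiv, hR.2, hk]; exact hjk)
      have e2 : cj g P ≤ R := fun w hw => by
        have : (⟨w, h1.1 hw⟩ : H) ∈ R.subgroupOf H := e1 ▸ Subgroup.mem_sup_right hw
        exact this
      exact (Subgroup.eq_of_le_of_card_ge e2 (by rw [hR.2, h1.2])).symm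
    have hDb' : D = ⊥ := by
      have htop : (⊤ : Subgroup G) ≤ Subgroup.normalizer (D : Set G) := by
        rw [← hmax a b hne]
        exact sup_le (hnorm a D ⟨inf_le_left, hq.symm⟩) (hnorm b D ⟨inf_le_right, hq.symm⟩)
      refine (Subgroup.eq_bot_iff_forall _).mpr fun g hg => hfaith g fun y => ?_
      obtain ⟨h, rfl⟩ := MulAction.exists_smul_eq G a y
      have h2 : (h⁻¹ * g * h) • a = a := by
        have := (conj_mem_of_le_normalizer htop (Subgroup.mem_top h⁻¹) hg).1
        simpa using this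
      rwa [mul_smul, mul_smul, inv_smul_eq_iff] at h2
    have hc3 : Nat.card (stabilizer G a) = 3 := by
      rw [hcard a, hq, hDb', Subgroup.card_bot]
    have : Fact (Nat.Prime 3) := ⟨Nat.prime_three⟩
    exact Or.inl ⟨mulEquivOfPrimeCardEq hc3 (by simp)⟩

end Cfsg.Agent.SubThree
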