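import Cfsg.Agent.SubThree.Modules

/-!
# The critical distance is one
-/

set_option autoImplicit false
set_option linter.unusedSectionVars false
set_option linter.unusedVariables false

namespace Cfsg.Agent.SubThree

open MulAction

variable {G Ω : Type*} [Group G] [MulAction G Ω]

/-- adjacency: the stabilisers share a line -/
def Adj (G : Type*) [Group G] [MulAction G Ω] (q : ℕ) (a c : Ω) : Prop :=
  a ≠ c ∧ ∃ P : Subgroup G, P ∈ L q a ∧ P ∈ L q c

/-- the line through two adjacent points -/
abbrev line (G : Type*) [Group G] [MulAction G Ω] (a c : Ω) : Subgroup G :=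
  stabilizer G a ⊓ stabilizer G c

/-- walks -/
inductive Reach (G : Type*) [Group G] [MulAction G Ω] (q : ℕ) : ℕ → Ω → Ω → Prop
  | refl (a : Ω) : Reach G q 0 a a
  | head {n : ℕ} {a m c : Ω} : Adj G q a m → Reach G q n m c → Reach G q (n + 1) a c

theorem Adj.symm {q : ℕ} {a c : Ω} (h : Adj G q a c) : Adj G q c a := by
  obtain ⟨hne, P, h1, h2⟩ := h
  exact ⟨hne.symm, P, h2, h1⟩

theorem Adj.smul {q : ℕ} {a c : Ω} (g : G) (h : Adj G q a c) : Adj G q (g • a) (g • c) := by
  obtain ⟨hne, P, h1, h2⟩ := h
  exact ⟨fun e => hne (smul_left_cancel g e), cj g P, cj_mem_L g h1, cj_mem_L g h2⟩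

theorem Reach.snoc {q n : ℕ} {a m c : Ω} (h : Reach G q n a m) (h' : Adj G q m c) :
    Reach G q (n + 1) a c := by
  induction h with
  | refl a => exact .head h' (.refl c)
  | head h1 _ ih => exact .head h1 (ih h')

theorem Reach.trans {q n n' : ℕ} {a m c : Ω} (h : Reach G q n a m) (h' : Reach G q n' m c) :
    Reach G q (n' + n) a c := by
  induction h with
  | refl a => simpa using h'
  | @head k a m' c' h1 _ ih =>
    rw [← Nat.add_assoc]
    exact .head h1 (ih h')

theorem Reach.zero {q : ℕ} {a c : Ω} (h : Reach G q 0 a c) : a = c := by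
  cases h
  rfl

theorem Reach.exists_head {q n : ℕ} {a c : Ω} (h : Reach G q (n + 1) a c) :
    ∃ m, Adj G q a m ∧ Reach G q n m c := by
  cases h with
  | head h1 h2 => exact ⟨_, h1, h2⟩

theorem Reach.exists_last {q : ℕ} : ∀ {n : ℕ} {a c : Ω}, Reach G q (n + 1) a c →
    ∃ m, Reach G q n a m ∧ Adj G q m c := by
  intro n
  induction n with
  | zero =>
    intro a c h
    obtain ⟨m, h1, h2⟩ := h.exists_head
    obtain rfl := h2.zero
    exact ⟨a, .refl a, h1⟩
  | succ n ih =>
    intro a c h
    obtain ⟨m, h1, h2⟩ := h.exists_head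
    obtain ⟨w, h3, h4⟩ := ih h2
    exact ⟨w, .head h1 h3, h4⟩

theorem Reach.smul {q n : ℕ} {a c : Ω} (g : G) (h : Reach G q n a c) :
    Reach G q n (g • a) (g • c) := by
  induction h with
  | refl a => exact .refl _
  | head h1 _ ih => exact .head (h1.smul g) ih

variable [Finite G] {q : ℕ}

namespace Ctx

variable (C : Ctx G Ω q)
include C

theorem connected (a c : Ω) : ∃ n, Reach G q n a c := by
  obtain ⟨P, hP⟩ := C.exists_line a
  obtain ⟨d, hne, hd⟩ := C.exists_mate hP
  have hadj : Adj G q a d := ⟨hne, P, hP, hd⟩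
  set S : Submonoid G :=
    { carrier := {g | ∃ n, Reach G q n a (g • a)}
      one_mem' := ⟨0, by rw [one_smul]; exact .refl a⟩
      mul_mem' := by
        rintro g h ⟨n, hn⟩ ⟨m, hm⟩
        refine ⟨_, hn.trans ?_ (n' := m)⟩
        rw [mul_smul]
        exact hm.smul g }
  have hinv : ∀ g ∈ S, g⁻¹ ∈ S := by
    intro g hg
    have h2 : g⁻¹ = g ^ (orderOf g - 1) := by
      refine inv_eq_of_mul_eq_one_right ?_
      rw [← pow_succ', Nat.sub_add_cancel (orderOf_pos g), pow_orderOf_eq_one]
    rw [h2]
    exact pow_mem hg _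
  let K : Subgroup G := { S with inv_mem' := fun {g} hg => hinv g hg }
  obtain ⟨g₀, hg₀⟩ := C.trans.exists_smul_eq a d
  have h1 : stabilizer G a ≤ K := fun g hg => ⟨0, by
    rw [show g • a = a from hg]; exact .refl a⟩
  have hg₀K : g₀ ∈ K := ⟨1, by rw [hg₀]; exact .head hadj (.refl d)⟩
  have h2 : stabilizer G d ≤ K := by
    intro g hg
    have h3 : g₀⁻¹ * g * g₀ ∈ stabilizer G a := by
      rw [mem_stabilizer_iff, mul_smul, mul_smul, hg₀, show g • d = d from hg, inv_smul_eq_iff, hg₀]
    have h4 := K.mul_mem (K.mul_mem hg₀K (h1 h3)) (K.inv_mem hg₀K)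
    simpa [mul_assoc] using h4
  obtain ⟨g, rfl⟩ := C.trans.exists_smul_eq a c
  have h3 : (⊤ : Subgroup G) ≤ K := C.maxl a d hne ▸ sup_le h1 h2
  exact h3 (Subgroup.mem_top g)

theorem line_mem {a c : Ω} (h : Adj G q a c) : line G a c ∈ L q a ∧ line G a c ∈ L q c := by
  obtain ⟨hne, P, h1, h2⟩ := h
  rw [show line G a c = P from C.inter_stab hne h1 h2]
  exact ⟨h1, h2⟩

theorem N_le_stab_adj {a c : Ω} (h : Adj G q a c) :
    (N q a : Subgroup G) ≤ stabilizer G c :=
  (C.N_le (C.line_mem h).1).trans inf_le_right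

theorem crit_symm (hB : InN G Ω q) {a c : Ω} (h1 : (V q a : Subgroup G) ≤ stabilizer G c)
    (h2 : (V q c : Subgroup G) ≤ stabilizer G a) (h : (V q a : Subgroup G) ≤ N q c) :
    (V q c : Subgroup G) ≤ N q a :=
  fun x hx => C.mem_N_of_comm hB (h2 hx) fun v hv => (C.N_comm (h hv) hx).symm

theorem crit_zf (hB : InN G Ω q) {a c : Ω} {P Q : Subgroup G} (hP : P ∈ L q a) (hQ : Q ∈ L q c)
    (ha : (V q a : Subgroup G) ≤ Q) (hc : (V q c : Subgroup G) ≤ P)
    (h : ¬ (V q a : Subgroup G) ≤ N q c) : zf q a P = zf q c Q := by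
  obtain ⟨v, hv, hvN⟩ := SetLike.not_le_iff_exists.mp h
  obtain ⟨x, hx, hxN⟩ := SetLike.not_le_iff_exists.mp
    (fun h' => h (C.crit_symm hB (hc.trans hP.1) (ha.trans hQ.1) h'))
  have hvZ : v ∉ Z P := fun h' => hvN (C.mem_N_of_comm hB (hQ.1 (ha hv))
    fun w hw => (h'.2.2 w (hc hw)).symm)
  have hxZ : x ∉ Z Q := fun h' => hxN (C.mem_N_of_comm hB (hP.1 (hc hx))
    fun w hw => (h'.2.2 w (ha hw)).symm)
  have e1 := C.zf_eq hB hP hv hvZ (hc hx) hxN
  have e2 := C.zf_eq hB hQ hx hxZ (ha hv) hvN
  rw [← e1, ← inv_eq_of_mul_eq_one_right (C.zf_mem hB hQ).2.1, ← e2]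
  group

theorem N_normalizes_V {a : Ω} {P : Subgroup G} (hP : P ∈ L q a) :
    P ≤ Subgroup.normalizer ((V q a : Subgroup G) : Set G) :=
  hP.1.trans (stab_le_normalizer_V a)

/-- the commutator trick at distance two -/
theorem trick (hB : InN G Ω q) {a₁ c r a : Ω} {x y : G}
    (hx : x ∈ stabilizer G a₁ ∧ x * x = 1) (hxc : x ∈ stabilizer G c)
    (hadj : Adj G q c r) (hy : y ∈ (V q r : Subgroup G)) (hyl : y ∈ line G c (x • r))
    (hyN : y ∉ (N q (x • r) : Subgroup G))
    (hxr : (Z (line G c r) : Subgroup G) ≤ N q (x • r)) :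
    (y * x) ^ 4 = zf q (x • r) (line G c (x • r)) := by
  have hadj' : Adj G q c (x • r) := by
    have := hadj.smul x
    rwa [show x • c = c from hxc] at this
  obtain ⟨hP, hP'⟩ := C.line_mem hadj'
  have hxi : x⁻¹ = x := inv_eq_of_mul_eq_one_right hx.2
  have hv : x * y * x⁻¹ ∈ (V q (x • r) : Subgroup G) := conj_mem_V x hy
  have hl : cj x (line G c r) = line G c (x • r) := by
    ext w
    rw [mem_cj, Subgroup.mem_inf, Subgroup.mem_inf]
    constructor
    · rintro ⟨h1, h2⟩
      have e1 := cj_stab x c ▸ conj_mem_cj (g := x) h1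
      have e2 := cj_stab x r ▸ conj_mem_cj (g := x) h2
      rw [show x • c = c from hxc] at e1
      exact ⟨by simpa [mul_assoc] using e1, by simpa [mul_assoc] using e2⟩
    · rintro ⟨h1, h2⟩
      rw [← show x • c = c from hxc, ← cj_stab, mem_cj] at h1
      rw [← cj_stab, mem_cj] at h2
      exact ⟨h1, h2⟩
  have hvZ : x * y * x⁻¹ ∉ Z (line G c (x • r)) := by
    intro h
    rw [← hl, Z_cj, mem_cj] at h
    exact hyN (hxr (by simpa [mul_assoc] using h))
  have e := C.zf_eq hB hP' hv hvZ hyl hyN
  have hyy : y⁻¹ = y := C.V_inv hB hy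
  rw [← e, mul_inv_rev, mul_inv_rev, inv_inv, hxi, hyy]
  simp only [pow_succ, pow_zero, one_mul, mul_assoc]

/-- Some adjacent pair of points is critical. -/
theorem exists_crit (hB : InN G Ω q) :
    ∃ a c : Ω, Adj G q a c ∧ ¬ (V q a : Subgroup G) ≤ N q c := by
  classical
  obtain ⟨a₀, b₀, hne, P₀, hP₀, hP₀'⟩ := C.seed
  have hVne : ∀ a : Ω, (V q a : Subgroup G) ≠ ⊥ := fun a h => by
    obtain ⟨P, hP⟩ := C.exists_line a
    exact C.Z_ne_bot hP (le_bot_iff.mp (h ▸ Z_le_V hP))
  have hex : ∃ n, ∃ a c : Ω, Reach G q n a c ∧ ¬ (V q a : Subgroup G) ≤ N q c := by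
    by_contra h
    push Not at h
    refine hVne a₀ ((Subgroup.eq_bot_iff_forall _).mpr fun g hg => C.faith g fun x => ?_)
    obtain ⟨n, hn⟩ := C.connected a₀ x
    exact ((h n a₀ x hn).trans inf_le_left) hg
  obtain ⟨b, ⟨a, c, hac, hcrit⟩, hmin⟩ :
      ∃ b, (∃ a c : Ω, Reach G q b a c ∧ ¬ (V q a : Subgroup G) ≤ N q c) ∧
        ∀ n < b, ∀ a c : Ω, Reach G q n a c → (V q a : Subgroup G) ≤ N q c := by
    refine ⟨Nat.find hex, Nat.find_spec hex, fun n hn a c h => ?_⟩
    by_contra h'
    exact Nat.find_min hex hn ⟨a, c, h, h'⟩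
  match b, hac, hmin with
  | 0, hac, _ =>
    obtain rfl := hac.zero
    exact absurd (C.V_le_N hB a) hcrit
  | 1, hac, _ =>
    obtain ⟨m, h1, h2⟩ := hac.exists_head
    obtain rfl := h2.zero
    exact ⟨a, m, h1, hcrit⟩
  | k + 2, hac, hmin =>
    exfalso
    obtain ⟨a₁, hA, hR⟩ := hac.exists_head
    obtain ⟨m, hRm, hM⟩ := hR.exists_last
    have hRam : Reach G q (k + 1) a m := .head hA hRm
    obtain ⟨m', hRm', hM'⟩ := hRam.exists_last
    obtain ⟨hP, hP1⟩ := C.line_mem hA
    obtain ⟨hQm, hQ⟩ := C.line_mem hM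
    set P := line G a a₁
    set Q := line G m c
    have hVaQ : (V q a : Subgroup G) ≤ Q :=
      (hmin (k + 1) (by omega) a m hRam).trans (C.N_le hQm)
    have hVcP : (V q c : Subgroup G) ≤ P := by
      have hrev : ∀ {n : ℕ} {x y : Ω}, Reach G q n x y → Reach G q n y x := by
        intro n x y h
        induction h with
        | refl x => exact .refl x
        | head h1 _ ih => exact ih.snoc h1.symm
      exact (hmin (k + 1) (by omega) c a₁ (hrev hR)).trans (C.N_le hP1)
    have hcrit' : ¬ (V q c : Subgroup G) ≤ N q a := fun h =>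
      hcrit (C.crit_symm hB (hVcP.trans hP.1) (hVaQ.trans hQ.1) h)
    have hz0 : zf q a P = zf q c Q := C.crit_zf hB hP hQ hVaQ hVcP hcrit
    -- the shift to a neighbour off the first line
    obtain ⟨n, hN, hnP, hncrit⟩ : ∃ n : Ω, Adj G q a n ∧ line G a n ≠ P ∧
        ¬ (V q n : Subgroup G) ≤ N q m := by
      by_contra hcon
      push Not at hcon
      have key : ∀ n : Ω, Adj G q a n → line G a n ≠ P →
          stabilizer G a ≤ Subgroup.normalizer ((V q n ⊔ V q a : Subgroup G) : Set G) := by
        intro n hn hnP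
        obtain ⟨hR', hRn⟩ := C.line_mem hn
        set Y : Subgroup G := V q n ⊔ V q a with hY
        have hVnQ : (V q n : Subgroup G) ≤ Q := (hcon n hn hnP).trans (C.N_le hQm)
        have h1 : line G a n ≤ Subgroup.normalizer (Y : Set G) :=
          le_normalizer_of fun g hg x hx => by
            have : Y ≤ Y.comap (MulAut.conj g).toMonoidHom := by
              refine sup_le (fun w hw => ?_) (fun w hw => ?_)
              · exact (le_sup_left : _ ≤ Y)
                  (conj_mem_of_le_normalizer (C.N_normalizes_V hRn) hg hw)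
              · exact (le_sup_right : _ ≤ Y)
                  (conj_mem_of_le_normalizer (C.N_normalizes_V hR') hg hw)
            exact this hx
        have h2 : (V q c : Subgroup G) ≤ Subgroup.normalizer (Y : Set G) :=
          le_normalizer_of fun g hg x hx => by
            have : Y ≤ Y.comap (MulAut.conj g).toMonoidHom := by
              refine sup_le (fun w hw => ?_) (fun w hw => ?_)
              · change g * w * g⁻¹ ∈ Y
                rw [show g * w * g⁻¹ = (g * w * g⁻¹ * w⁻¹) * w by group]
                refine Y.mul_mem ?_ ((le_sup_left : _ ≤ Y) hw)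
                by_cases hgZ : g ∈ Z Q
                · rw [← hgZ.2.2 w (hVnQ hw), mul_inv_cancel_right, mul_inv_cancel]
                  exact one_mem _
                by_cases hwN : w ∈ (N q c : Subgroup G)
                · rw [← C.N_comm hwN hg, mul_inv_cancel_right, mul_inv_cancel]
                  exact one_mem _
                have e := C.zf_eq hB hQ hg hgZ (hVnQ hw) hwN
                rw [show g * w * g⁻¹ * w⁻¹ = (w * g * w⁻¹ * g⁻¹)⁻¹ by group, e, ← hz0]
                exact Y.inv_mem ((le_sup_right : _ ≤ Y) (Z_le_V hP (C.zf_mem hB hP)))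
              · exact (le_sup_right : _ ≤ Y)
                  (conj_mem_of_le_normalizer (stab_le_normalizer_V a) (hP.1 (hVcP hg)) hw)
            exact this hx
        rcases C.above hR' (le_sup_left (b := V q c)) (sup_le hR'.1 (hVcP.trans hP.1)) with h | h
        · exfalso
          apply hcrit'
          rw [← C.inter_eq hP hR' hnP]
          exact le_inf hVcP (h ▸ le_sup_right)
        · exact h ▸ sup_le h1 h2
      have key' : ∀ n : Ω, Adj G q a n →
          stabilizer G a ≤ Subgroup.normalizer ((V q n ⊔ V q a : Subgroup G) : Set G) := by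
        intro n hn
        by_cases hnP : line G a n = P
        · obtain ⟨P', hP', hne'⟩ := C.exists_other hP
          obtain ⟨g, hg, hgP⟩ := C.exists_conj (C.line_mem hn).1 hP'
          have hn' : Adj G q a (g • n) := by
            have := hn.smul g
            rwa [show g • a = a from hg] at this
          have hl : line G a (g • n) = P' := by
            refine C.inter_stab hn'.1 hP' ?_
            rw [← hgP]
            exact cj_mem_L g (C.line_mem hn).2
          have h := key (g • n) hn' (hl ▸ hne')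
          refine le_normalizer_of fun y hy x hx => ?_
          have hmap : ∀ (t : G) (u w : Ω), cj t (V q u ⊔ V q w) ≤ V q (t • u) ⊔ V q (t • w) := by
            intro t u w
            show Subgroup.map _ (V q u ⊔ V q w) ≤ _
            rw [Subgroup.map_sup]
            refine sup_le_sup ?_ ?_ <;> rintro _ ⟨z, hz, rfl⟩ <;> exact conj_mem_V t hz
          have hx' : g * x * g⁻¹ ∈ (V q (g • n) ⊔ V q a : Subgroup G) := by
            have := hmap g n a (conj_mem_cj hx)
            rwa [show g • a = a from hg] at this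
          have hy' : g * y * g⁻¹ ∈ stabilizer G a :=
            mul_mem (mul_mem hg hy) (inv_mem hg)
          have h3 := hmap g⁻¹ _ _ (conj_mem_cj (g := g⁻¹) (conj_mem_of_le_normalizer h hy' hx'))
          rw [inv_smul_smul, show g⁻¹ • a = a from inv_smul_eq_iff.mpr (Eq.symm hg)] at h3
          simpa [mul_assoc] using h3
        · exact key n hn hnP
      -- transport to the other endpoint
      have key'' : ∀ u w : Ω, Adj G q u w →
          stabilizer G u ≤ Subgroup.normalizer ((V q w ⊔ V q u : Subgroup G) : Set G) := by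
        intro u w huw
        obtain ⟨t, rfl⟩ := C.trans.exists_smul_eq a u
        have hw' : Adj G q a (t⁻¹ • w) := by
          have := huw.smul t⁻¹
          rwa [inv_smul_smul] at this
        have h := key' _ hw'
        have hmap : ∀ (t : G) (u w : Ω), cj t (V q u ⊔ V q w) ≤ V q (t • u) ⊔ V q (t • w) := by
          intro t u w
          show Subgroup.map _ (V q u ⊔ V q w) ≤ _
          rw [Subgroup.map_sup]
          refine sup_le_sup ?_ ?_ <;> rintro _ ⟨z, hz, rfl⟩ <;> exact conj_mem_V t hz
        refine le_normalizer_of fun y hy x hx => ?_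
        rw [← cj_stab, mem_cj] at hy
        have hx' := hmap t⁻¹ _ _ (conj_mem_cj (g := t⁻¹) hx)
        rw [inv_smul_smul] at hx'
        have h3 := hmap t _ _ (conj_mem_cj (g := t) (conj_mem_of_le_normalizer h hy hx'))
        rw [smul_inv_smul] at h3
        simpa [mul_assoc] using h3
      have hle : (V q a₁ ⊔ V q a : Subgroup G) ≤ stabilizer G a :=
        sup_le ((C.V_le_N hB a₁).trans ((C.N_le hP1).trans hP.1)) (C.V_le_stab hB a)
      refine hVne a (le_bot_iff.mp ?_)
      rw [← C.eq_bot hA.1 hle (key' a₁ hA) (by rw [sup_comm]; exact key'' a₁ a hA.symm)]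
      exact le_sup_right
    obtain ⟨hP', hP'n⟩ := C.line_mem hN
    obtain ⟨hQ'm', hQ'⟩ := C.line_mem hM'
    set P' := line G a n
    set Q' := line G m' m
    have hRnm : Reach G q (k + 2) n m := .head hN.symm hRam
    have hRnm' : Reach G q (k + 1) n m' := .head hN.symm hRm'
    have hVnQ' : (V q n : Subgroup G) ≤ Q' :=
      (hmin (k + 1) (by omega) n m' hRnm').trans (C.N_le hQ'm')
    have hVmP' : (V q m : Subgroup G) ≤ P' := by
      have hrev : ∀ {n : ℕ} {x y : Ω}, Reach G q n x y → Reach G q n y x := by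
        intro n x y h
        induction h with
        | refl x => exact .refl x
        | head h1 _ ih => exact ih.snoc h1.symm
      exact (hmin (k + 1) (by omega) m a (hrev hRam)).trans (C.N_le hP')
    have hz1 : zf q n P' = zf q m Q' := C.crit_zf hB hP'n hQ' hVnQ' hVmP' hncrit
    have hQQ : Q' ≠ Q := by
      intro h
      rcases eq_or_ne m' c with rfl | hne'
      · exact hcrit (hmin k (by omega) a _ hRm')
      · exact hcrit (hmin (k + 1) (by omega) a c (hRm'.snoc ⟨hne', Q', hQ'm', h ▸ hQ⟩))
    by_cases hI : ∀ u w : Ω, Adj G q u w → zf q u (line G u w) = zf q w (line G u w)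
    · -- the common case
      apply hcrit
      have hm : zf q a P' ∈ (V q m : Subgroup G) := by
        rw [hI a n hN, hz1]
        exact Z_le_V hQ' (C.zf_mem hB hQ')
      have hnot : zf q a P' ∉ Z P := by
        intro h
        have : zf q a P' ∈ Z P ⊓ Z P' := ⟨h, C.zf_mem hB hP'⟩
        rw [C.Z_inf hB hP hP' hnP] at this
        exact C.zf_notin hB hP' this
      have hVm : (V q m : Subgroup G) ≤ N q c := hmin 1 (by omega) m c (.head hM (.refl c))
      have hZ : Z P ≤ N q c := (Z_le_V hP1).trans (hmin (k + 1) (by omega) a₁ c hR)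
      intro v hv
      by_cases hvZ : v ∈ Z P
      · exact hZ hvZ
      · have h1 : v * zf q a P' ∈ Z P :=
          C.Z_mul_mem hB hP hv (Z_le_V hP' (C.zf_mem hB hP')) hvZ hnot
        have h2 := (N q c : Subgroup G).mul_mem (hZ h1) ((N q c : Subgroup G).inv_mem (hVm hm))
        simpa using h2
    · -- each value is the central element of another point of the line
      push Not at hI
      obtain ⟨u₀, w₀, huw, hne'⟩ := hI
      have hII : ∀ u : Ω, ∀ R ∈ (L q u : Set (Subgroup G)),
          ∃ p : Ω, p ≠ u ∧ R ∈ L q p ∧ zf q u R ∈ (Cp q p : Subgroup G) := by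
        obtain ⟨u, w, R, hu, hw, hne2, hz⟩ : ∃ (u w : Ω) (R : Subgroup G), R ∈ L q u ∧ R ∈ L q w ∧
            w ≠ u ∧ zf q u R ∈ (Cp q w : Subgroup G) := by
          obtain ⟨hu, hw⟩ := C.line_mem huw
          by_contra hcon
          push Not at hcon
          set R := line G u₀ w₀
          have h1 := hcon u₀ w₀ R hu hw huw.1.symm
          have h2 := hcon w₀ u₀ R hw hu huw.1
          have key : ∀ p : Ω, R ∈ L q p → zf q u₀ R ∉ (Cp q p : Subgroup G) →
              zf q w₀ R ∉ (Cp q p : Subgroup G) → zf q u₀ R * zf q w₀ R ∈ (Cp q p : Subgroup G) := by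
            intro p hp hx hy
            refine mul_mem_two (C.Cp_le_Z hB hp) (C.card_Z hB hp) (C.zf_mem hB hu) (C.zf_mem hB hw) hx hy
          have h3 : zf q u₀ R * zf q w₀ R ∈ (Cp q u₀ : Subgroup G) ⊓ Cp q w₀ :=
            ⟨key u₀ hu (C.zf_notin hB hu) h2, key w₀ hw h1 (C.zf_notin hB hw)⟩
          rw [C.Cp_inf hB huw.1, Subgroup.mem_bot] at h3
          refine hne' ?_
          rw [eq_inv_of_mul_eq_one_left h3, inv_eq_of_mul_eq_one_right (C.zf_mem hB hw).2.1]
        intro u' R' hR'
        obtain ⟨g, hg, hgR⟩ := C.flag_trans hu hR'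
        refine ⟨g • w, fun h => hne2 (smul_left_cancel g (h.trans hg.symm)), hgR ▸ cj_mem_L g hw, ?_⟩
        rw [← hg, ← hgR, C.zf_cj hB hu g]
        exact conj_mem_Cp g hz
      have hinj : ∀ {p p' : Ω} {z : G}, z ≠ 1 → z ∈ (Cp q p : Subgroup G) →
          z ∈ (Cp q p' : Subgroup G) → p = p' := by
        intro p p' z hz h1 h2
        by_contra h
        have : z ∈ (Cp q p : Subgroup G) ⊓ Cp q p' := ⟨h1, h2⟩
        rw [C.Cp_inf hB h] at this
        exact hz this
      obtain ⟨p, hpa, hpP, hpz⟩ := hII a P hP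
      obtain ⟨p', hpc, hpQ, hpz'⟩ := hII c Q hQ
      obtain rfl : p = p' := hinj (C.zf_ne_one hB hP) hpz (hz0 ▸ hpz')
      have hk : k = 0 := by
        by_contra hk
        exact hcrit (hmin 2 (by omega) a c
          (.head ⟨hpa.symm, P, hP, hpP⟩ (.head ⟨hpc, Q, hpQ, hQ⟩ (.refl c))))
      subst hk
      obtain rfl : a₁ = m := hRm.zero
      obtain rfl : a = m' := hRm'.zero
      have hQ'P : Q' = P := rfl
      have hPQ : P ≠ Q := fun h => hQQ (hQ'P.trans h)
      obtain rfl : a₁ = p := by
        by_contra h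
        exact hPQ (C.line_unique h hP1 hpP hQm hpQ)
      -- the shifted pair
      obtain ⟨p, hp, hpP', hpn⟩ := hII n P' hP'n
      obtain ⟨p', hp', hpP1, hp1⟩ := hII a₁ P hP1
      obtain rfl : p = p' := hinj (C.zf_ne_one hB hP'n) hpn (hz1 ▸ hp1)
      obtain rfl : a = p := by
        by_contra h
        exact hnP (C.line_unique h hP' hpP' hP hpP1)
      -- every line has exactly two points
      obtain ⟨g, hga, hgP⟩ := C.flag_trans hP hP1
      have hga₁ : g • a₁ = a := by
        refine hinj (z := zf q a₁ P) (C.zf_ne_one hB hP1) ?_ hp1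
        have h1 := C.zf_cj hB hP g
        rw [hga, hgP] at h1
        rw [h1]
        exact conj_mem_Cp g hpz
      have hgood : ∀ u w : Ω, Adj G q u w → ∀ w' : Ω, w' ≠ u → line G u w ∈ L q w' → w' = w := by
        have hpts : ∀ r : Ω, P ∈ L q r → r = a ∨ r = a₁ := by
          intro r hr
          by_contra hcon
          push Not at hcon
          have hval : ∀ s : Ω, P ∈ L q s → s ≠ a → s ≠ a₁ → ∀ z ∈ (Cp q s : Subgroup G), z ≠ 1 →
              z = zf q a P * zf q a₁ P := by
            intro s hs hs1 hs2 z hz hz1'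
            have hzP := C.Cp_le_Z hB hs hz
            have hz1 : z ∉ (Cp q a : Subgroup G) := fun h => hs1 (hinj hz1' hz h)
            have hz2 : z ∉ (Cp q a₁ : Subgroup G) := fun h => hs2 (hinj hz1' hz h)
            have hw1 : zf q a P * zf q a₁ P ∉ (Cp q a : Subgroup G) := fun h =>
              C.zf_notin hB hP (((Cp q a : Subgroup G).mul_mem_cancel_right hp1).mp h)
            have hw2 : zf q a P * zf q a₁ P ∉ (Cp q a₁ : Subgroup G) := fun h =>
              C.zf_notin hB hP1 (((Cp q a₁ : Subgroup G).mul_mem_cancel_left hpz).mp h)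
            have hwP : zf q a P * zf q a₁ P ∈ Z P := mul_mem (C.zf_mem hB hP) (C.zf_mem hB hP1)
            have h1 : z * (zf q a P * zf q a₁ P) ∈ (Cp q a : Subgroup G) ⊓ Cp q a₁ :=
              ⟨mul_mem_two (C.Cp_le_Z hB hP) (C.card_Z hB hP) hzP hwP hz1 hw1,
               mul_mem_two (C.Cp_le_Z hB hP1) (C.card_Z hB hP1) hzP hwP hz2 hw2⟩
            rw [C.Cp_inf hB hA.1, Subgroup.mem_bot] at h1
            rw [eq_inv_of_mul_eq_one_left h1, inv_eq_of_mul_eq_one_right hwP.2.1]
          have hCne : ∀ s : Ω, P ∈ L q s → ∃ z ∈ (Cp q s : Subgroup G), z ≠ 1 := by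
            intro s hs
            by_contra h
            push Not at h
            obtain ⟨t, hts⟩ := C.trans.exists_smul_eq a₁ s
            have := h _ (hts ▸ conj_mem_Cp t hpz)
            exact C.zf_ne_one hB hP (conj_eq_one_iff.mp this)
          have hgr : g • r = r := by
            have hgr' : P ∈ L q (g • r) := by
              rw [← hgP]
              exact cj_mem_L g hr
            obtain ⟨z, hz, hz1'⟩ := hCne r hr
            obtain ⟨z', hz', hz1''⟩ := hCne (g • r) hgr'
            have e1 := hval r hr hcon.1 hcon.2 z hz hz1'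
            have e2 := hval (g • r) hgr'
              (fun h => hcon.2 (smul_left_cancel g (h.trans hga₁.symm)))
              (fun h => hcon.1 (smul_left_cancel g (h.trans hga.symm))) z' hz' hz1''
            exact hinj hz1'' hz' (e2.trans e1.symm ▸ hz)
          have hgP' : g ∈ P := C.eq_of_normalizes hr hgr hgP
          exact hA.1 ((show g • a = a from hP.1 hgP').symm.trans hga)
        intro u w huw w' hw' hmem
        obtain ⟨hu, hw⟩ := C.line_mem huw
        obtain ⟨t, htu, htR⟩ := C.flag_trans hP hu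
        have haux : ∀ v : Ω, v ≠ u → line G u w ∈ L q v → v = t • a₁ := by
          intro v hv hvm
          have h1 : P ∈ L q (t⁻¹ • v) := by
            have h2 := cj_mem_L t⁻¹ hvm
            rwa [← htR, cj_cj, inv_mul_cancel, cj_one] at h2
          rcases hpts _ h1 with h | h
          · exact absurd ((inv_smul_eq_iff.mp h).trans htu) hv
          · exact inv_smul_eq_iff.mp h
        rw [haux w' hw' hmem, haux w huw.1.symm hw]
      -- all two-paths turning at the middle are critical
      have hpath : ∀ u v w : Ω, Adj G q u v → Adj G q v w → line G u v ≠ line G v w →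
          ¬ (V q u : Subgroup G) ≤ N q w := by
        intro u v w huv hvw hne3 hle
        obtain ⟨hu, hv⟩ := C.line_mem huv
        obtain ⟨t, htv, htR⟩ := C.flag_trans hv hP1
        have htu : t • u = a := by
          refine hgood a₁ a hA.symm (t • u) (fun h => huv.1 (smul_left_cancel t (h.trans htv.symm))) ?_
          rw [show line G a₁ a = P from inf_comm _ _, ← htR]
          exact cj_mem_L t hu
        have hvw' : Adj G q a₁ (t • w) := htv ▸ hvw.smul t
        obtain ⟨hR1, hR2⟩ := C.line_mem hvw'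
        have hline : cj t (line G v w) = line G a₁ (t • w) := by
          refine (C.inter_stab hvw'.1 ?_ ?_).symm
          · exact htv ▸ cj_mem_L t (C.line_mem hvw).1
          · exact cj_mem_L t (C.line_mem hvw).2
        have hR' : line G a₁ (t • w) ≠ P := by
          intro h
          refine hne3 (Subgroup.map_injective (f := (MulAut.conj t).toMonoidHom) (MulAut.conj t).injective ?_)
          exact htR.trans (h.symm.trans hline.symm)
        obtain ⟨e, he, heN⟩ := C.exists_not_N hP1
        obtain ⟨s, hsa, hsa₁, hsR⟩ : ∃ s : G, s • a = a ∧ s • a₁ = a₁ ∧ cj s (line G a₁ (t • w)) = Q := by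
          by_cases hRQ : line G a₁ (t • w) = Q
          · exact ⟨1, one_smul _ _, one_smul _ _, (cj_one _).trans hRQ⟩
          · obtain ⟨hL, hn1, hn2⟩ := C.swap hP1 hR1 hR' he heN
            refine ⟨e, he.1, he.2, ?_⟩
            rcases C.line_cases hP1 hR1 hQm hR' hPQ.symm (Ne.symm hRQ) hL with h | h | h
            · exact absurd h hn1
            · exact absurd h hn2
            · exact h
        have hsw : s • t • w = c := by
          refine hgood a₁ c hM (s • t • w)
            (fun h => hvw'.1 (smul_left_cancel s (hsa₁.trans h.symm))) ?_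
          rw [show line G a₁ c = Q from rfl, ← hsR]
          exact cj_mem_L s hR2
        refine hcrit fun x hx => ?_
        have h1 : (s * t)⁻¹ • a = u := by
          rw [inv_smul_eq_iff, mul_smul, htu, hsa]
        have h2 := hle (h1 ▸ conj_mem_V (s * t)⁻¹ hx)
        have h3 := conj_mem_N (s * t) h2
        rw [mul_smul, hsw] at h3
        simpa [mul_assoc] using h3
      -- the final contradiction
      obtain ⟨R, hR, hRQ⟩ := C.exists_other hQ
      obtain ⟨r, hcr, hrR⟩ := C.exists_mate hR
      have hcradj : Adj G q c r := ⟨hcr, R, hR, hrR⟩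
      have hlcr : line G c r = R := C.inter_stab hcr hR hrR
      have hd2 : ∀ {u w : Ω}, Adj G q u w → (V q u : Subgroup G) ≤ N q w := fun h =>
        hmin 1 (by omega) _ _ (.head h (.refl _))
      obtain ⟨x, hx, hxN⟩ := SetLike.not_le_iff_exists.mp hcrit
      have hxQ : x ∈ Q := hVaQ hx
      have hxP : x ∈ P := C.N_le hP (C.V_le_N hB _ hx)
      obtain ⟨hL, hn1, hn2⟩ := C.swap hQ hR hRQ hxQ hxN
      have hxc : x • c = c := hxQ.2
      have hlcr' : line G c (x • r) = cj x R := by
        refine C.inter_stab ?_ hL (cj_mem_L x hrR)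
        exact fun h => hcr (smul_left_cancel x (hxc.trans h))
      have hcr' : Adj G q c (x • r) := by
        have := hcradj.smul x
        rwa [hxc] at this
      obtain ⟨y, hy, hyN⟩ := SetLike.not_le_iff_exists.mp
        (hpath r c a₁ hcradj.symm hM.symm (by
          rw [show line G r c = R from (inf_comm _ _).trans hlcr, show line G c a₁ = Q from inf_comm _ _]
          exact hRQ))
      have hyZ : y ∉ Z R := fun h => hyN (hd2 hM.symm (Z_le_V hR h))
      have hy1 : y • a₁ = a₁ := C.N_le_stab_adj hM.symm (hd2 hcradj.symm hy)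
      have hyc : y • c = c := (hd2 hcradj.symm hy : _).1
      have hyl : y ∈ line G c (x • r) := (C.N_le (C.line_mem hcr').1) (hd2 hcradj.symm hy)
      have hyQ : y ∈ Q := (C.N_le hQ) (hd2 hcradj.symm hy)
      have hyN' : y ∉ (N q (x • r) : Subgroup G) := by
        intro h
        have hcrit2 := hpath r c (x • r) hcradj.symm hcr' (by
          rw [show line G r c = R from (inf_comm _ _).trans hlcr, hlcr']
          exact hn2.symm)
        refine hcrit2 fun v hv => ?_
        have hZ : Z R ≤ N q (x • r) := (Z_le_V hR).trans (hd2 hcr')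
        by_cases hvZ : v ∈ Z R
        · exact hZ hvZ
        · have h1 := hZ (C.Z_mul_mem hB hrR hv hy hvZ hyZ)
          have h2 := (N q (x • r) : Subgroup G).mul_mem h1 ((N q (x • r) : Subgroup G).inv_mem h)
          simpa using h2
      have hxx : x * x = 1 := C.V_sq hB hx
      have hyy : y * y = 1 := C.V_sq hB hy
      have hx1 : x • a₁ = a₁ := hxP.2
      have e1 := C.trick hB (a := a) (a₁ := a₁) ⟨hx1, hxx⟩ hxc hcradj hy hyl hyN'
        (hlcr.symm ▸ (Z_le_V hR).trans (hd2 hcr'))
      have hA' : Adj G q a₁ (y • a) := by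
        have := hA.symm.smul y
        rwa [hy1] at this
      have hyNa₁ : y ∉ (N q a₁ : Subgroup G) := hyN
      have hP'' : cj y P ∈ L q a₁ ∧ cj y P ≠ Q ∧ cj y P ≠ P := C.swap hQm hP1 hPQ hyQ hyNa₁
      have hlay : line G a₁ (y • a) = cj y P := C.inter_stab hA'.1 hP''.1 (cj_mem_L y hP)
      have hxl : x ∈ line G a₁ (y • a) := C.N_le (C.line_mem hA').1 (hd2 hA hx)
      have hxN' : x ∉ (N q (y • a) : Subgroup G) := by
        intro h
        have hcrit2 := hpath a a₁ (y • a) hA hA' (by
          rw [show line G a a₁ = P from rfl, hlay]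
          exact hP''.2.2.symm)
        refine hcrit2 fun v hv => ?_
        have hZ : Z P ≤ N q (y • a) := (Z_le_V hP1).trans (hd2 hA')
        have hxZ : x ∉ Z P := fun h' => hxN (hd2 hM (Z_le_V hP1 h'))
        by_cases hvZ : v ∈ Z P
        · exact hZ hvZ
        · have h1 := hZ (C.Z_mul_mem hB hP hv hx hvZ hxZ)
          have h2 := (N q (y • a) : Subgroup G).mul_mem h1 ((N q (y • a) : Subgroup G).inv_mem h)
          simpa using h2
      have e2 := C.trick hB (a := r) (a₁ := c) ⟨hyc, hyy⟩ hy1 hA.symm hx hxl hxN'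
        ((show line G a₁ a = P from inf_comm _ _).symm ▸ (Z_le_V hP1).trans (hd2 hA'))
      obtain ⟨s, hs, hsl, hs1⟩ := hII (x • r) _ (C.line_mem hcr').2
      obtain rfl : s = c := hgood (x • r) c hcr'.symm s hs (by
        rw [show line G (x • r) c = line G c (x • r) from inf_comm _ _]
        exact hsl)
      obtain ⟨s', hs', hsl', hs2⟩ := hII (y • a) _ (C.line_mem hA').2
      obtain rfl : s' = a₁ := hgood (y • a) a₁ hA'.symm s' hs' (by
        rw [show line G (y • a) a₁ = line G a₁ (y • a) from inf_comm _ _]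
        exact hsl')
      have h1 : (y * x) ^ 4 = (x * y) ^ 4 := by
        have hcom : x * zf q (y • a) (line G s' (y • a)) =
            zf q (y • a) (line G s' (y • a)) * x := (mem_Cp.mp hs2).2 x hx1
        rw [← e2] at hcom
        calc (y * x) ^ 4 = x⁻¹ * ((x * y) ^ 4 * x) := by
              simp only [pow_succ, pow_zero, one_mul]; group
          _ = x⁻¹ * (x * (x * y) ^ 4) := by rw [hcom]
          _ = (x * y) ^ 4 := by rw [inv_mul_cancel_left]
      rw [e1, e2] at h1
      exact hM.1 (hinj (C.zf_ne_one hB (C.line_mem hcr').2) (h1 ▸ hs2) hs1)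

end Ctx

end Cfsg.Agent.SubThree
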