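import Mathlib

/-!
# Point stabilisers having a suborbit of length three: lines

A "line" of a point `a` is a subgroup of the stabiliser `G_a` of index three (a Sylow 2-subgroup).
Two points are joined when their stabilisers share a line.
-/

set_option autoImplicit false
set_option linter.unusedSectionVars false

namespace Cfsg.Agent.SubThree

open MulAction

section general
variable {G : Type*} [Group G]

/-- conjugate subgroup -/
abbrev cj (g : G) (P : Subgroup G) : Subgroup G := P.map (MulAut.conj g).toMonoidHom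

theorem mem_cj {g x : G} {P : Subgroup G} : x ∈ cj g P ↔ g⁻¹ * x * g ∈ P := by
  constructor
  · rintro ⟨y, hy, rfl⟩
    simpa [MulAut.conj_apply, mul_assoc] using hy
  · intro h
    exact ⟨_, h, by simp [MulAut.conj_apply, mul_assoc]⟩

theorem conj_mem_cj {g x : G} {P : Subgroup G} (h : x ∈ P) : g * x * g⁻¹ ∈ cj g P :=
  mem_cj.mpr (by simpa [mul_assoc] using h)

theorem cj_cj (g h : G) (P : Subgroup G) : cj g (cj h P) = cj (g * h) P := by
  ext x
  simp [mem_cj, mul_assoc]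

theorem cj_one (P : Subgroup G) : cj 1 P = P := by
  ext x
  simp [mem_cj]

theorem card_cj (g : G) (P : Subgroup G) : Nat.card (cj g P) = Nat.card P :=
  Subgroup.card_map_of_injective (MulAut.conj g).injective

theorem le_normalizer_of {A K : Subgroup G} (h : ∀ g ∈ A, ∀ x ∈ K, g * x * g⁻¹ ∈ K) :
    A ≤ Subgroup.normalizer (K : Set G) := by
  intro g hg
  rw [Subgroup.mem_normalizer_iff]
  refine fun x => ⟨h g hg x, fun hx => ?_⟩
  simpa [mul_assoc] using h g⁻¹ (inv_mem hg) _ hx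

theorem conj_mem_of_le_normalizer {A K : Subgroup G} (h : A ≤ Subgroup.normalizer (K : Set G))
    {g : G} (hg : g ∈ A) {x : G} (hx : x ∈ K) : g * x * g⁻¹ ∈ K :=
  (Subgroup.mem_normalizer_iff.mp (h hg) x).mp hx

theorem cj_eq_of_le_normalizer {A K : Subgroup G} (h : A ≤ Subgroup.normalizer (K : Set G))
    {g : G} (hg : g ∈ A) : cj g K = K := by
  ext x
  rw [mem_cj]
  constructor
  · intro hx
    simpa [mul_assoc] using conj_mem_of_le_normalizer h hg hx
  · intro hx
    simpa [mul_assoc] using conj_mem_of_le_normalizer h (inv_mem hg) hx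

theorem card_mul_relIndex {A B : Subgroup G} (h : A ≤ B) : Nat.card A * A.relIndex B = Nat.card B := by
  have h1 := Subgroup.relIndex_mul_relIndex (⊥ : Subgroup G) A B bot_le h
  rwa [Subgroup.relIndex_bot_left, Subgroup.relIndex_bot_left] at h1

/-- products in a subgroup of index two -/
theorem mul_mem_two [Finite G] {A B : Subgroup G} (hle : A ≤ B) (hc : Nat.card B = 2 * Nat.card A)
    {x y : G} (hx : x ∈ B) (hy : y ∈ B) (hxA : x ∉ A) (hyA : y ∉ A) : x * y ∈ A := by
  have hi : (A.subgroupOf B).index = 2 := by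
    have h1 := card_mul_relIndex hle
    have h2 : 0 < Nat.card A := Nat.card_pos
    change A.relIndex B = 2
    rw [hc, mul_comm 2] at h1
    exact Nat.eq_of_mul_eq_mul_left h2 h1
  have h := (Subgroup.mul_mem_iff_of_index_two hi (a := ⟨x, hx⟩) (b := ⟨y, hy⟩)).mpr
    (by simp [Subgroup.mem_subgroupOf, hxA, hyA])
  exact h

theorem eq_of_index_two [Finite G] {A K B : Subgroup G} (hAK : A ≤ K) (hKB : K ≤ B)
    (hc : Nat.card B = 2 * Nat.card A) (hne : ∃ x ∈ B, x ∉ K) : K = A := by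
  refine le_antisymm (fun x hx => ?_) hAK
  by_contra hxA
  obtain ⟨y, hy, hyK⟩ := hne
  have := hAK (mul_mem_two (hAK.trans hKB) hc (hKB hx) hy hxA (fun h => hyK (hAK h)))
  exact hyK ((K.mul_mem_cancel_left hx).mp this)

/-- In a group of order `3 * |P|`, an element of odd order of `P` lies in every conjugate of `P`. -/
theorem odd_mem_of_index_three [Finite G] {H P : Subgroup G} (hle : P ≤ H)
    (hc : Nat.card H = 3 * Nat.card P) {x h : G} (hx : x ∈ P) (hodd : Odd (orderOf x)) (hh : h ∈ H) :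
    h * x * h⁻¹ ∈ P := by
  classical
  set P' := P.subgroupOf H
  have hi : Nat.card (H ⧸ P') = 3 := by
    have h1 := card_mul_relIndex hle
    have h2 : 0 < Nat.card P := Nat.card_pos
    rw [hc, mul_comm 3] at h1
    exact Nat.eq_of_mul_eq_mul_left h2 h1
  set φ := MulAction.toPermHom H (H ⧸ P') with hφ
  set x' : H := ⟨x, hle hx⟩
  have hx' : x' ∈ P' := hx
  have hfix : φ x' ((1 : H) : H ⧸ P') = ((1 : H) : H ⧸ P') := by
    change ((x' * 1 : H) : H ⧸ P') = _
    exact QuotientGroup.eq.mpr (by simpa using inv_mem hx')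
  obtain ⟨e⟩ : Nonempty ((H ⧸ P') ≃ Fin 3) := Finite.card_eq.mp (by simpa using hi)
  have key : ∀ σ : Equiv.Perm (Fin 3), ∀ i : Fin 3, σ i = i → σ ^ 2 = 1 := by decide
  set σ := e.permCongrHom (φ x') with hσ
  have h2 : σ ^ 2 = 1 := key σ (e ((1 : H) : H ⧸ P')) (by simp [hσ, hfix])
  have hn : σ ^ (orderOf x) = 1 := by
    rw [hσ, ← map_pow, ← map_pow]
    have : x' ^ orderOf x = 1 := by
      ext; simp [x', pow_orderOf_eq_one]
    rw [this, map_one, map_one]
  have h1 : σ = 1 := by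
    obtain ⟨m, hm⟩ := hodd
    rw [hm, pow_succ, pow_mul, h2, one_pow, one_mul] at hn
    exact hn
  have hker : φ x' = 1 := e.permCongrHom.injective (by rw [← hσ, h1, map_one])
  have := congrArg (fun f : Equiv.Perm (H ⧸ P') => f ((⟨h, hh⟩⁻¹ : H) : H ⧸ P')) hker
  simp only [Equiv.Perm.coe_one, id_eq] at this
  change ((x' * ⟨h, hh⟩⁻¹ : H) : H ⧸ P') = _ at this
  have h3 : (x' * ⟨h, hh⟩⁻¹)⁻¹ * ⟨h, hh⟩⁻¹ ∈ P' := QuotientGroup.eq.mp this
  have h4 : h * x⁻¹ * h⁻¹ ∈ P := by simpa [P', x', Subgroup.mem_subgroupOf, mul_assoc] using h3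
  simpa [mul_assoc] using inv_mem h4

end general

variable {G Ω : Type*} [Group G] [MulAction G Ω]

/-- the lines of a point -/
def L (q : ℕ) (a : Ω) : Set (Subgroup G) := {P | P ≤ stabilizer G a ∧ Nat.card P = q}

/-- the intersection of the lines of a point -/
def N (q : ℕ) (a : Ω) : Subgroup G := stabilizer G a ⊓ sInf (L q a)

theorem mem_N {q : ℕ} {a : Ω} {x : G} :
    x ∈ (N q a : Subgroup G) ↔ x ∈ stabilizer G a ∧ ∀ P ∈ (L q a : Set (Subgroup G)), x ∈ P := by
  simp [N, Subgroup.mem_inf, Subgroup.mem_sInf]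

theorem cj_stab (g : G) (a : Ω) : cj g (stabilizer G a) = stabilizer G (g • a) :=
  (stabilizer_smul_eq_stabilizer_map_conj g a).symm

theorem cj_mem_L {q : ℕ} {a : Ω} {P : Subgroup G} (g : G) (h : P ∈ L q a) :
    cj g P ∈ L q (g • a) :=
  ⟨cj_stab g a ▸ Subgroup.map_mono h.1, (card_cj g P).trans h.2⟩

theorem conj_mem_N {q : ℕ} {a : Ω} {x : G} (g : G) (h : x ∈ (N q a : Subgroup G)) :
    g * x * g⁻¹ ∈ (N q (g • a) : Subgroup G) := by
  rw [mem_N] at h ⊢
  refine ⟨cj_stab g a ▸ conj_mem_cj h.1, fun P hP => ?_⟩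
  have := cj_mem_L g⁻¹ hP
  rw [inv_smul_smul] at this
  simpa [mul_assoc] using mem_cj.mp (h.2 _ this)

/-- standing hypotheses -/
structure Ctx (G Ω : Type*) [Group G] [MulAction G Ω] (q : ℕ) : Prop where
  trans : IsPretransitive G Ω
  faith : ∀ g : G, (∀ x : Ω, g • x = x) → g = 1
  maxl : ∀ a c : Ω, a ≠ c → stabilizer G a ⊔ stabilizer G c = ⊤
  two : ∃ k : ℕ, q = 2 ^ k
  card_st : ∀ a : Ω, Nat.card (stabilizer G a) = 3 * q
  nn : ∀ a : Ω, ∀ P ∈ (L q a : Set (Subgroup G)), ¬ stabilizer G a ≤ Subgroup.normalizer (P : Set G)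
  seed : ∃ a b : Ω, a ≠ b ∧ ∃ P : Subgroup G, P ∈ L q a ∧ P ∈ L q b

variable [Finite G] {q : ℕ}

namespace Ctx

variable (C : Ctx G Ω q)
include C

omit [Finite G] in
theorem eq_bot {a c : Ω} (hne : a ≠ c) {K : Subgroup G} (hK : K ≤ stabilizer G a)
    (ha : stabilizer G a ≤ Subgroup.normalizer (K : Set G))
    (hc : stabilizer G c ≤ Subgroup.normalizer (K : Set G)) : K = ⊥ := by
  have htop : (⊤ : Subgroup G) ≤ Subgroup.normalizer (K : Set G) := by
    rw [← C.maxl a c hne]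
    exact sup_le ha hc
  refine (Subgroup.eq_bot_iff_forall _).mpr fun g hg => C.faith g fun x => ?_
  obtain ⟨h, rfl⟩ := C.trans.exists_smul_eq a x
  have h1 : h⁻¹ * g * h ∈ K := by
    simpa using conj_mem_of_le_normalizer htop (Subgroup.mem_top h⁻¹) hg
  have h2 : (h⁻¹ * g * h) • a = a := hK h1
  rwa [mul_smul, mul_smul, inv_smul_eq_iff] at h2

theorem exists_conj {a : Ω} {P Q : Subgroup G} (hP : P ∈ L q a) (hQ : Q ∈ L q a) :
    ∃ h ∈ stabilizer G a, cj h P = Q := by
  obtain ⟨k, hk⟩ := C.two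
  set H := stabilizer G a with hH
  set P' := P.subgroupOf H
  set Q' := Q.subgroupOf H
  have hQc : Nat.card Q' = 2 ^ k := by
    rw [Nat.card_congr (Subgroup.subgroupOfEquivOfLe hQ.1).toEquiv, hQ.2, hk]
  have hQp : IsPGroup 2 Q' := IsPGroup.of_card hQc
  have hi : Nat.card (H ⧸ P') = 3 := by
    have h1 := card_mul_relIndex hP.1
    rw [hP.2, C.card_st a, mul_comm 3] at h1
    exact Nat.eq_of_mul_eq_mul_left (hk ▸ Nat.two_pow_pos k) h1
  have : Fact (Nat.Prime 2) := ⟨Nat.prime_two⟩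
  obtain ⟨c, hc⟩ := hQp.nonempty_fixed_point_of_prime_not_dvd_card (H ⧸ P') (by rw [hi]; decide)
  obtain ⟨h, rfl⟩ := QuotientGroup.mk_surjective c
  have key : ∀ x ∈ Q, (h : G)⁻¹ * x * h ∈ P := by
    intro x hx
    have h1 := hc (⟨⟨x, hQ.1 hx⟩, hx⟩ : Q')
    change (((⟨x, hQ.1 hx⟩ : H) * h : H) : H ⧸ P') = _ at h1
    have h2 := QuotientGroup.eq.mp h1.symm
    simpa [P', Subgroup.mem_subgroupOf, mul_assoc] using h2
  refine ⟨h, h.2, (Subgroup.eq_of_le_of_card_ge (fun x hx => mem_cj.mpr (key x hx)) ?_).symm⟩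
  rw [card_cj, hP.2, hQ.2]

theorem flag_trans {a c : Ω} {P Q : Subgroup G} (hP : P ∈ L q a) (hQ : Q ∈ L q c) :
    ∃ g : G, g • a = c ∧ cj g P = Q := by
  obtain ⟨g, hg⟩ := C.trans.exists_smul_eq a c
  have h1 : cj g P ∈ L q c := hg ▸ cj_mem_L g hP
  obtain ⟨h, hh, he⟩ := C.exists_conj h1 hQ
  refine ⟨h * g, ?_, by rw [← cj_cj, he]⟩
  rw [mul_smul, hg]
  exact hh

theorem exists_mate {a : Ω} {P : Subgroup G} (hP : P ∈ L q a) :
    ∃ c : Ω, a ≠ c ∧ P ∈ L q c := by
  obtain ⟨a₀, b₀, hne, P₀, h1, h2⟩ := C.seed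
  obtain ⟨g, hg, hgP⟩ := C.flag_trans h1 hP
  refine ⟨g • b₀, fun h => hne (smul_left_cancel g (hg.trans h)), ?_⟩
  rw [← hgP]
  exact cj_mem_L g h2

theorem exists_line (a : Ω) : ∃ P : Subgroup G, P ∈ L q a := by
  obtain ⟨a₀, b₀, hne, P₀, h1, h2⟩ := C.seed
  obtain ⟨g, hg⟩ := C.trans.exists_smul_eq a₀ a
  exact ⟨cj g P₀, hg ▸ cj_mem_L g h1⟩

theorem q_pos : 0 < q := by
  obtain ⟨k, rfl⟩ := C.two
  exact Nat.two_pow_pos k

theorem exists_other {a : Ω} {P : Subgroup G} (hP : P ∈ L q a) :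
    ∃ P' ∈ (L q a : Set (Subgroup G)), P' ≠ P := by
  by_contra h
  push Not at h
  refine C.nn a P hP (le_normalizer_of fun g hg x hx => ?_)
  have h1 : cj g P ∈ L q a := by
    have := cj_mem_L g hP
    rwa [show g • a = a from hg] at this
  rw [← h _ h1]
  exact conj_mem_cj hx

theorem N_le {a : Ω} {P : Subgroup G} (hP : P ∈ L q a) : (N q a : Subgroup G) ≤ P :=
  fun _ hx => (mem_N.mp hx).2 P hP

omit [Finite G] C in
theorem _root_.Cfsg.Agent.SubThree.stab_le_normalizer_N (a : Ω) :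
    stabilizer G a ≤ Subgroup.normalizer ((N q a : Subgroup G) : Set G) :=
  le_normalizer_of fun g hg x hx => by
    have := conj_mem_N g hx
    rwa [show g • a = a from hg] at this

/-- between a line and the stabiliser -/
theorem above {a : Ω} {P K : Subgroup G} (hP : P ∈ L q a) (h1 : P ≤ K) (h2 : K ≤ stabilizer G a) :
    K = P ∨ K = stabilizer G a := by
  have e1 := card_mul_relIndex h1
  have e2 := card_mul_relIndex h2
  rw [C.card_st a] at e2
  rw [hP.2] at e1
  rw [← e1, mul_assoc, mul_comm 3 q] at e2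
  have e3 := Nat.eq_of_mul_eq_mul_left C.q_pos e2
  rcases (Nat.dvd_prime Nat.prime_three).mp (Dvd.intro _ e3 : P.relIndex K ∣ 3) with h | h
  · exact Or.inl (le_antisymm (Subgroup.relIndex_eq_one.mp h) h1)
  · refine Or.inr (Subgroup.eq_of_le_of_card_ge h2 ?_)
    rw [C.card_st a, ← e1, h, mul_comm]

theorem eq_of_normalizes {a : Ω} {P : Subgroup G} (hP : P ∈ L q a) {g : G}
    (hg : g ∈ stabilizer G a) (h : cj g P = P) : g ∈ P := by
  have hgn : g ∈ Subgroup.normalizer (P : Set G) := by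
    rw [Subgroup.mem_normalizer_iff]
    refine fun x => ⟨fun hx => h ▸ conj_mem_cj hx, fun hx => ?_⟩
    rw [← h, mem_cj] at hx
    simpa [mul_assoc] using hx
  rcases C.above hP (K := stabilizer G a ⊓ Subgroup.normalizer (P : Set G))
    (le_inf hP.1 Subgroup.le_normalizer) inf_le_left with h1 | h1
  · exact h1 ▸ ⟨hg, hgn⟩
  · exact absurd (h1 ▸ inf_le_right) (C.nn a P hP)

theorem sup_eq {a : Ω} {P P' : Subgroup G} (hP : P ∈ L q a) (hP' : P' ∈ L q a) (hne : P' ≠ P) :
    P ⊔ P' = stabilizer G a := by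
  rcases C.above hP le_sup_left (sup_le hP.1 hP'.1) with h | h
  · exact absurd (Subgroup.eq_of_le_of_card_ge (h ▸ le_sup_right : P' ≤ P) (by rw [hP.2, hP'.2])) hne
  · exact h

theorem normalCore_eq {a : Ω} {P : Subgroup G} (hP : P ∈ L q a) :
    (P.subgroupOf (stabilizer G a)).normalCore = (N q a : Subgroup G).subgroupOf (stabilizer G a) := by
  ext x
  rw [Subgroup.mem_subgroupOf, mem_N]
  constructor
  · intro hx
    refine ⟨x.2, fun Q hQ => ?_⟩
    obtain ⟨h, hh, rfl⟩ := C.exists_conj hP hQ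
    have h1 := hx (⟨h, hh⟩⁻¹ : stabilizer G a)
    rw [mem_cj]
    simpa [Subgroup.mem_subgroupOf] using h1
  · intro hx h
    change (h * x * h⁻¹ : stabilizer G a) ∈ P.subgroupOf (stabilizer G a)
    rw [Subgroup.mem_subgroupOf]
    have hQ : cj (h : G)⁻¹ P ∈ L q a := by
      have := cj_mem_L (h : G)⁻¹ hP
      rwa [show (h : G)⁻¹ • a = a from inv_smul_eq_iff.mpr h.2.symm] at this
    simpa [mul_assoc] using mem_cj.mp (hx.2 _ hQ)

theorem two_card_N {a : Ω} {P : Subgroup G} (hP : P ∈ L q a) :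
    2 * Nat.card (N q a : Subgroup G) = q := by
  set H := stabilizer G a with hH
  set P' := P.subgroupOf H
  have hNH : (N q a : Subgroup G) ≤ H := inf_le_left
  have hi : Nat.card (H ⧸ P') = 3 := by
    have h1 := card_mul_relIndex hP.1
    rw [hP.2, C.card_st a, mul_comm 3] at h1
    exact Nat.eq_of_mul_eq_mul_left C.q_pos h1
  have hker : (N q a : Subgroup G).relIndex H ∣ 6 := by
    change ((N q a : Subgroup G).subgroupOf H).index ∣ 6
    rw [← C.normalCore_eq hP, Subgroup.normalCore_eq_ker, Subgroup.index_ker]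
    refine (Subgroup.card_subgroup_dvd_card _).trans ?_
    rw [Nat.card_perm, hi]
    rfl
  have h1 := Subgroup.relIndex_mul_relIndex _ _ _ (C.N_le hP) hP.1
  have h2 : P.relIndex H = 3 := hi
  rw [h2] at h1
  rw [← h1] at hker
  have h3 : (N q a : Subgroup G).relIndex P ∣ 2 :=
    Nat.dvd_of_mul_dvd_mul_right (by norm_num : 0 < 3) hker
  have h4 := card_mul_relIndex (C.N_le hP)
  rw [hP.2] at h4
  rcases (Nat.dvd_prime Nat.prime_two).mp h3 with h | h
  · exfalso
    have : (N q a : Subgroup G) = P := le_antisymm (C.N_le hP) (Subgroup.relIndex_eq_one.mp h)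
    exact C.nn a P hP (this ▸ stab_le_normalizer_N a)
  · rw [h] at h4
    omega

theorem card_line {a : Ω} {P : Subgroup G} (hP : P ∈ L q a) :
    Nat.card P = 2 * Nat.card (N q a : Subgroup G) := by
  rw [C.two_card_N hP, hP.2]

theorem exists_not_N {a : Ω} {P : Subgroup G} (hP : P ∈ L q a) :
    ∃ g ∈ P, g ∉ (N q a : Subgroup G) := by
  by_contra h
  push Not at h
  have h1 : P = N q a := le_antisymm h (C.N_le hP)
  exact C.nn a P hP (h1.symm ▸ stab_le_normalizer_N a)

theorem inter_eq {a : Ω} {P P' : Subgroup G} (hP : P ∈ L q a) (hP' : P' ∈ L q a) (hne : P' ≠ P) :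
    P ⊓ P' = N q a := by
  refine eq_of_index_two (le_inf (C.N_le hP) (C.N_le hP')) inf_le_left (C.card_line hP) ?_
  by_contra h
  push Not at h
  exact hne (Subgroup.eq_of_le_of_card_ge (fun x hx => (h x hx).2) (by rw [hP.2, hP'.2])).symm

/-- a normal overgroup of `N` not equal to `N` covers everything together with a line -/
theorem normal_sup {a : Ω} {P K : Subgroup G} (hP : P ∈ L q a) (hK : K ≤ stabilizer G a)
    (hn : stabilizer G a ≤ Subgroup.normalizer (K : Set G)) (hne : ∃ x ∈ K, x ∉ (N q a : Subgroup G)) :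
    P ⊔ K = stabilizer G a := by
  rcases C.above hP le_sup_left (sup_le hP.1 hK) with h | h
  · exfalso
    obtain ⟨x, hx, hxN⟩ := hne
    refine hxN (mem_N.mpr ⟨hK hx, fun Q hQ => ?_⟩)
    obtain ⟨g, hg, rfl⟩ := C.exists_conj hP hQ
    rw [← cj_eq_of_le_normalizer hn hg] at hx
    exact Subgroup.map_mono (h ▸ le_sup_right) hx
  · exact h

theorem swap {a : Ω} {P P' : Subgroup G} (hP : P ∈ L q a) (hP' : P' ∈ L q a) (hne : P' ≠ P)
    {g : G} (hg : g ∈ P) (hgN : g ∉ (N q a : Subgroup G)) :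
    cj g P' ∈ L q a ∧ cj g P' ≠ P ∧ cj g P' ≠ P' := by
  refine ⟨?_, fun h => hne ?_, fun h => hgN ?_⟩
  · have := cj_mem_L g hP'
    rwa [show g • a = a from hP.1 hg] at this
  · have h1 : cj g⁻¹ (cj g P') = P' := by rw [cj_cj, inv_mul_cancel, cj_one]
    rw [← h1, h]
    exact cj_eq_of_le_normalizer Subgroup.le_normalizer (inv_mem hg)
  · rw [← C.inter_eq hP hP' hne]
    exact ⟨hg, C.eq_of_normalizes hP' (hP.1 hg) h⟩

theorem inter_stab {a c : Ω} (hne : a ≠ c) {P : Subgroup G} (ha : P ∈ L q a) (hc : P ∈ L q c) :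
    stabilizer G a ⊓ stabilizer G c = P := by
  rcases C.above ha (le_inf ha.1 hc.1) inf_le_left with h | h
  · exact h
  · exfalso
    have h1 : stabilizer G a ≤ stabilizer G c := inf_eq_left.mp h
    have h2 : stabilizer G a = stabilizer G c :=
      Subgroup.eq_of_le_of_card_ge h1 (by rw [C.card_st, C.card_st])
    have h3 := C.eq_bot hne le_rfl Subgroup.le_normalizer (h2 ▸ Subgroup.le_normalizer)
    have h4 := C.card_st a
    rw [h3, Subgroup.card_bot] at h4
    omega

/-- only one line through two points -/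
theorem line_unique {a c : Ω} (hne : a ≠ c) {P Q : Subgroup G} (ha : P ∈ L q a) (hc : P ∈ L q c)
    (ha' : Q ∈ L q a) (hc' : Q ∈ L q c) : P = Q :=
  (C.inter_stab hne ha hc).symm.trans (C.inter_stab hne ha' hc')

/-- a point has exactly three lines -/
theorem line_cases {a : Ω} {P P' P'' Q : Subgroup G} (hP : P ∈ L q a) (hP' : P' ∈ L q a)
    (hP'' : P'' ∈ L q a) (h1 : P' ≠ P) (h2 : P'' ≠ P) (h3 : P'' ≠ P') (hQ : Q ∈ L q a) :
    Q = P ∨ Q = P' ∨ Q = P'' := by
  classical
  set H := stabilizer G a with hH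
  have hi : Nat.card (H ⧸ P.subgroupOf H) = 3 := by
    have e1 := card_mul_relIndex hP.1
    rw [hP.2, C.card_st a, mul_comm 3] at e1
    exact Nat.eq_of_mul_eq_mul_left C.q_pos e1
  let f : H ⧸ P.subgroupOf H → Subgroup G := fun x => cj (Quotient.out x : H) P
  have hf : ∀ R ∈ (L q a : Set (Subgroup G)), R ∈ Set.range f := by
    intro R hR
    obtain ⟨h, hh, rfl⟩ := C.exists_conj hP hR
    refine ⟨QuotientGroup.mk (⟨h, hh⟩ : H), ?_⟩
    obtain ⟨p, hp⟩ := QuotientGroup.mk_out_eq_mul (P.subgroupOf H) (⟨h, hh⟩ : H)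
    simp only [f]
    rw [hp, Subgroup.coe_mul, ← cj_cj, cj_eq_of_le_normalizer (A := P) Subgroup.le_normalizer (show ((p : H) : G) ∈ P from p.2)]
  by_contra hcon
  push Not at hcon
  have hsub : ({Q, P, P', P''} : Set (Subgroup G)) ⊆ Set.range f := by
    rintro R (rfl | rfl | rfl | rfl) <;> apply hf <;> assumption
  have hc := Set.ncard_le_ncard hsub (Set.finite_range f)
  have hr : (Set.range f).ncard ≤ 3 := hi ▸ Finite.card_range_le f
  rw [Set.ncard_insert_of_notMem (by simp [hcon.1, hcon.2.1, hcon.2.2]),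
    Set.ncard_insert_of_notMem (by simp [h1.symm, h2.symm]),
    Set.ncard_pair h3.symm] at hc
  omega

end Ctx

end Cfsg.Agent.SubThree
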