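import Cfsg.Agent.SubThree.Lines

/-!
# The vertex modules
-/

set_option autoImplicit false
set_option linter.unusedSectionVars false

namespace Cfsg.Agent.SubThree

open MulAction

variable {G Ω : Type*} [Group G] [MulAction G Ω]

/-- central elements of a subgroup squaring to one -/
def Z (P : Subgroup G) : Subgroup G where
  carrier := {x | x ∈ P ∧ x * x = 1 ∧ ∀ y ∈ P, y * x = x * y}
  one_mem' := ⟨one_mem P, one_mul 1, fun y _ => by simp⟩
  mul_mem' := by
    rintro x y ⟨hx, hx2, hxc⟩ ⟨hy, hy2, hyc⟩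
    refine ⟨mul_mem hx hy, ?_, fun w hw => ?_⟩
    · rw [mul_assoc, ← mul_assoc y, ← hyc x hx, mul_assoc x, hy2, mul_one, hx2]
    · rw [← mul_assoc, hxc w hw, mul_assoc, hyc w hw, mul_assoc]
  inv_mem' := by
    rintro x ⟨hx, hx2, hxc⟩
    rw [Set.mem_ofPred_eq, inv_eq_of_mul_eq_one_right hx2]
    exact ⟨hx, hx2, hxc⟩

theorem mem_Z {P : Subgroup G} {x : G} :
    x ∈ Z P ↔ x ∈ P ∧ x * x = 1 ∧ ∀ y ∈ P, y * x = x * y := Iff.rfl

theorem Z_le (P : Subgroup G) : Z P ≤ P := fun _ h => h.1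

theorem conj_mem_Z {P : Subgroup G} {x : G} (g : G) (h : x ∈ Z P) : g * x * g⁻¹ ∈ Z (cj g P) := by
  refine ⟨conj_mem_cj h.1, ?_, ?_⟩
  · rw [show g * x * g⁻¹ * (g * x * g⁻¹) = g * (x * x) * g⁻¹ by group, h.2.1]
    group
  · intro y hy
    obtain ⟨w, hw, rfl⟩ := hy
    simp only [MulEquiv.coe_toMonoidHom, MulAut.conj_apply]
    rw [show g * w * g⁻¹ * (g * x * g⁻¹) = g * (w * x) * g⁻¹ by group, h.2.2 w hw]
    group

theorem Z_cj (g : G) (P : Subgroup G) : Z (cj g P) = cj g (Z P) := by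
  ext x
  constructor
  · intro h
    have := conj_mem_Z g⁻¹ h
    rw [cj_cj, inv_mul_cancel, cj_one] at this
    rw [mem_cj]
    simpa using this
  · intro h
    have := conj_mem_Z g (mem_cj.mp h)
    simpa [mul_assoc] using this

/-- the module of a point -/
def V (q : ℕ) (a : Ω) : Subgroup G := Subgroup.closure {x | ∃ P ∈ (L q a : Set (Subgroup G)), x ∈ Z P}

theorem Z_le_V {q : ℕ} {a : Ω} {P : Subgroup G} (hP : P ∈ L q a) : Z P ≤ V q a :=
  fun _ hx => Subgroup.subset_closure ⟨P, hP, hx⟩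

theorem conj_mem_V {q : ℕ} {a : Ω} {x : G} (g : G) (h : x ∈ (V q a : Subgroup G)) :
    g * x * g⁻¹ ∈ (V q (g • a) : Subgroup G) := by
  induction h using Subgroup.closure_induction with
  | mem y hy =>
    obtain ⟨P, hP, hy⟩ := hy
    exact Z_le_V (cj_mem_L g hP) (conj_mem_Z g hy)
  | one => simp
  | mul y w _ _ hy hw =>
    rw [show g * (y * w) * g⁻¹ = (g * y * g⁻¹) * (g * w * g⁻¹) by group]
    exact mul_mem hy hw
  | inv y _ hy =>
    rw [show g * y⁻¹ * g⁻¹ = (g * y * g⁻¹)⁻¹ by group]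
    exact inv_mem hy

theorem stab_le_normalizer_V {q : ℕ} (a : Ω) :
    stabilizer G a ≤ Subgroup.normalizer ((V q a : Subgroup G) : Set G) :=
  le_normalizer_of fun g hg x hx => by
    have := conj_mem_V g hx
    rwa [show g • a = a from hg] at this

/-- the central part of the module -/
def Cp (q : ℕ) (a : Ω) : Subgroup G := V q a ⊓ Subgroup.centralizer (stabilizer G a : Set G)

theorem mem_Cp {q : ℕ} {a : Ω} {x : G} :
    x ∈ (Cp q a : Subgroup G) ↔ x ∈ (V q a : Subgroup G) ∧ ∀ g ∈ stabilizer G a, g * x = x * g := by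
  simp [Cp, Subgroup.mem_centralizer_iff]

theorem conj_mem_Cp {q : ℕ} {a : Ω} {x : G} (g : G) (h : x ∈ (Cp q a : Subgroup G)) :
    g * x * g⁻¹ ∈ (Cp q (g • a) : Subgroup G) := by
  rw [mem_Cp] at h ⊢
  refine ⟨conj_mem_V g h.1, fun y hy => ?_⟩
  rw [← cj_stab, mem_cj] at hy
  calc y * (g * x * g⁻¹) = g * ((g⁻¹ * y * g) * x) * g⁻¹ := by group
    _ = g * (x * (g⁻¹ * y * g)) * g⁻¹ := by rw [h.2 _ hy]
    _ = g * x * g⁻¹ * y := by group

/-- the commutator value attached to a point and one of its lines -/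
def IsZ (q : ℕ) (a : Ω) (P : Subgroup G) (z : G) : Prop :=
  ∀ v ∈ (V q a : Subgroup G), v ∉ Z P → ∀ g ∈ P, g ∉ (N q a : Subgroup G) → g * v * g⁻¹ * v⁻¹ = z

/-- the commutator value attached to a point and one of its lines -/
noncomputable def zf (q : ℕ) (a : Ω) (P : Subgroup G) : G :=
  Classical.epsilon (IsZ q a P)

/-- The hypothesis: central involutions of lines lie in `N`. -/
def InN (G Ω : Type*) [Group G] [MulAction G Ω] (q : ℕ) : Prop :=
  ∀ a : Ω, ∀ P ∈ (L q a : Set (Subgroup G)), Z P ≤ N q a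

/-- elementary abelian -/
def EA (A : Subgroup G) : Prop := ∀ x ∈ A, x * x = 1 ∧ ∀ y ∈ A, x * y = y * x

variable [Finite G] {q : ℕ}

namespace Ctx

variable (C : Ctx G Ω q)
include C

theorem inN_or : InN G Ω q ∨ ∀ a : Ω, ∀ P ∈ (L q a : Set (Subgroup G)), ¬ Z P ≤ N q a := by
  by_cases h : InN G Ω q
  · exact Or.inl h
  · refine Or.inr fun c Q hQ hle => h fun a P hP x hx => ?_
    obtain ⟨g, hg, hgP⟩ := C.flag_trans hQ hP
    subst hgP hg
    rw [Z_cj, mem_cj] at hx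
    simpa [mul_assoc] using conj_mem_N g (hle hx)

theorem Z_ne_bot {a : Ω} {P : Subgroup G} (hP : P ∈ L q a) : Z P ≠ ⊥ := by
  obtain ⟨k, hk⟩ := C.two
  have : Fact (Nat.Prime 2) := ⟨Nat.prime_two⟩
  have hp : IsPGroup 2 P := IsPGroup.of_card (hP.2.trans hk)
  have : Nontrivial P := by
    rw [← Finite.one_lt_card_iff_nontrivial, C.card_line hP]
    have : 0 < Nat.card (N q a : Subgroup G) := Nat.card_pos
    omega
  have := hp.center_nontrivial
  obtain ⟨j, hj⟩ := IsPGroup.iff_card.mp (hp.to_subgroup (Subgroup.center P))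
  have hd : 2 ∣ Nat.card (Subgroup.center P) := by
    have := Finite.one_lt_card (α := Subgroup.center P)
    rw [hj] at this ⊢
    exact dvd_pow_self 2 (fun h => by simp [h] at this)
  obtain ⟨⟨⟨x, hxP⟩, hxc⟩, hxo⟩ := exists_prime_orderOf_dvd_card' 2 hd
  have hx2 : x * x = 1 := by
    have := pow_orderOf_eq_one (⟨⟨x, hxP⟩, hxc⟩ : Subgroup.center P)
    rw [hxo, pow_two, Subtype.ext_iff, Subtype.ext_iff] at this
    simpa using this
  have hx1 : x ≠ 1 := by
    rintro rfl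
    rw [orderOf_eq_one_iff.mpr (by ext; rfl)] at hxo
    omega
  intro h
  have hm : x ∈ Z P := ⟨hxP, hx2, fun y hy => by
    simpa [Subtype.ext_iff] using Subgroup.mem_center_iff.mp hxc ⟨y, hy⟩⟩
  rw [h] at hm
  exact hx1 hm

theorem V_le_N (hB : InN G Ω q) (a : Ω) : (V q a : Subgroup G) ≤ N q a := by
  refine (Subgroup.closure_le _).mpr ?_
  rintro x ⟨P, hP, hx⟩
  exact hB a P hP hx

theorem V_le_stab (hB : InN G Ω q) (a : Ω) : (V q a : Subgroup G) ≤ stabilizer G a :=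
  (C.V_le_N hB a).trans inf_le_left

theorem N_comm {a : Ω} {n v : G} (hn : n ∈ (N q a : Subgroup G)) (hv : v ∈ (V q a : Subgroup G)) :
    n * v = v * n := by
  have : (V q a : Subgroup G) ≤ Subgroup.centralizer ({n} : Set G) := by
    refine (Subgroup.closure_le _).mpr ?_
    rintro x ⟨P, hP, hx⟩
    rw [SetLike.mem_coe, Subgroup.mem_centralizer_singleton_iff]
    exact (hx.2.2 n (C.N_le hP hn)).symm
  exact (Subgroup.mem_centralizer_singleton_iff.mp (this hv)).symm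

theorem V_comm (hB : InN G Ω q) {a : Ω} {u v : G} (hu : u ∈ (V q a : Subgroup G))
    (hv : v ∈ (V q a : Subgroup G)) : u * v = v * u :=
  C.N_comm (C.V_le_N hB a hu) hv

theorem V_sq (hB : InN G Ω q) {a : Ω} {v : G} (hv : v ∈ (V q a : Subgroup G)) : v * v = 1 := by
  induction hv using Subgroup.closure_induction with
  | mem y hy =>
    obtain ⟨P, _, hy⟩ := hy
    exact hy.2.1
  | one => simp
  | mul y w hy hw hy2 hw2 =>
    have h : w * y = y * w := C.V_comm hB hw hy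
    rw [mul_assoc, ← mul_assoc w, h, mul_assoc y, hw2, mul_one, hy2]
  | inv y _ hy => rw [← mul_inv_rev, hy, inv_one]

theorem V_inv (hB : InN G Ω q) {a : Ω} {v : G} (hv : v ∈ (V q a : Subgroup G)) : v⁻¹ = v :=
  inv_eq_of_mul_eq_one_right (C.V_sq hB hv)

theorem Z_not_normal {a : Ω} {P : Subgroup G} (hP : P ∈ L q a) :
    ¬ stabilizer G a ≤ Subgroup.normalizer ((Z P : Subgroup G) : Set G) := by
  intro h
  have key : ∀ c : Ω, ∀ Q ∈ (L q c : Set (Subgroup G)),
      stabilizer G c ≤ Subgroup.normalizer ((Z Q : Subgroup G) : Set G) := by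
    intro c Q hQ
    obtain ⟨g, rfl, rfl⟩ := C.flag_trans hP hQ
    refine le_normalizer_of fun y hy x hx => ?_
    rw [← cj_stab, mem_cj] at hy
    rw [Z_cj, mem_cj] at hx ⊢
    have := conj_mem_of_le_normalizer h hy hx
    simpa [mul_assoc] using this
  obtain ⟨c, hne, hc⟩ := C.exists_mate hP
  exact C.Z_ne_bot hP (C.eq_bot hne ((Z_le P).trans hP.1) h (key c P hc))

theorem mem_N_of_comm (hB : InN G Ω q) {a : Ω} {g : G} (hg : g ∈ stabilizer G a)
    (hcm : ∀ v ∈ (V q a : Subgroup G), g * v = v * g) : g ∈ (N q a : Subgroup G) := by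
  by_contra hgN
  obtain ⟨P, hP⟩ := C.exists_line a
  set K := stabilizer G a ⊓ Subgroup.centralizer ((V q a : Subgroup G) : Set G) with hK
  have hgK : g ∈ K := ⟨hg, Subgroup.mem_centralizer_iff.mpr fun v hv => (hcm v hv).symm⟩
  have hn : stabilizer G a ≤ Subgroup.normalizer (K : Set G) := by
    refine le_normalizer_of fun h hh x hx => ⟨(stabilizer G a).mul_mem ((stabilizer G a).mul_mem hh hx.1) ((stabilizer G a).inv_mem hh), ?_⟩
    refine Subgroup.mem_centralizer_iff.mpr fun v hv => ?_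
    have hv' := conj_mem_of_le_normalizer (stab_le_normalizer_V (q := q) a) (inv_mem hh) hv
    calc v * (h * x * h⁻¹) = h * ((h⁻¹ * v * h⁻¹⁻¹) * x) * h⁻¹ := by group
      _ = h * (x * (h⁻¹ * v * h⁻¹⁻¹)) * h⁻¹ := by rw [Subgroup.mem_centralizer_iff.mp hx.2 _ hv']
      _ = h * x * h⁻¹ * v := by group
  refine C.Z_not_normal hP ?_
  rw [← C.normal_sup hP inf_le_left hn ⟨g, hgK, hgN⟩]
  refine sup_le (le_normalizer_of fun x hx y hy => ?_) (le_normalizer_of fun x hx y hy => ?_)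
  · rwa [hy.2.2 x hx, mul_inv_cancel_right]
  · have h1 : y * x = x * y := Subgroup.mem_centralizer_iff.mp hx.2 y (Z_le_V hP hy)
    rwa [← h1, mul_inv_cancel_right]

theorem mem_Z_of_comm (hB : InN G Ω q) {a : Ω} {P : Subgroup G} (hP : P ∈ L q a) {v g : G}
    (hv : v ∈ (V q a : Subgroup G)) (hg : g ∈ P) (hgN : g ∉ (N q a : Subgroup G))
    (h : g * v = v * g) : v ∈ Z P := by
  refine ⟨C.N_le hP (C.V_le_N hB a hv), C.V_sq hB hv, fun y hy => ?_⟩
  by_cases hyN : y ∈ (N q a : Subgroup G)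
  · exact C.N_comm hyN hv
  · have h1 : g⁻¹ * y ∈ (N q a : Subgroup G) :=
      mul_mem_two (C.N_le hP) (C.card_line hP) (inv_mem hg) hy (fun h' => hgN (inv_mem_iff.mp h')) hyN
    have h2 := C.N_comm h1 hv
    calc y * v = g * ((g⁻¹ * y) * v) := by group
      _ = g * (v * (g⁻¹ * y)) := by rw [h2]
      _ = g * v * (g⁻¹ * y) := by group
      _ = v * g * (g⁻¹ * y) := by rw [h]
      _ = v * y := by group

theorem card_V (hB : InN G Ω q) {a : Ω} {P : Subgroup G} (hP : P ∈ L q a) :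
    Nat.card (V q a : Subgroup G) = 2 * Nat.card (Z P) := by
  classical
  -- an elementary abelian subgroup of largest order of `P` which is not inside `N`
  have hEAZ : EA (Z P) := fun x hx => ⟨hx.2.1, fun y hy => (hy.2.2 x hx.1)⟩
  set 𝒜 : Set (Subgroup G) := {A | A ≤ P ∧ EA A} with h𝒜
  have hA0 : Z P ∈ 𝒜 := ⟨Z_le P, hEAZ⟩
  obtain ⟨M, hM, hmax⟩ :=
    Set.exists_max_image 𝒜 (fun A => Nat.card A) (Set.toFinite _) ⟨_, hA0⟩
  obtain ⟨A, hA, hAc, hAN⟩ : ∃ A ∈ 𝒜, Nat.card A = Nat.card M ∧ ¬ A ≤ N q a := by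
    by_contra hcon
    push Not at hcon
    set J := Subgroup.closure {x | ∃ A ∈ 𝒜, Nat.card A = Nat.card M ∧ x ∈ A} with hJ
    have key : ∀ c : Ω, P ∈ L q c →
        (∀ A ∈ 𝒜, Nat.card A = Nat.card M → A ≤ N q c) →
          stabilizer G c ≤ Subgroup.normalizer (J : Set G) := by
      intro c hc hin
      refine le_normalizer_of fun g hg x hx => ?_
      induction hx using Subgroup.closure_induction with
      | mem y hy =>
        obtain ⟨A, hA, hAc, hy⟩ := hy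
        refine Subgroup.subset_closure ⟨cj g A, ⟨?_, ?_⟩, (card_cj g A).trans hAc, conj_mem_cj hy⟩
        · rintro _ ⟨w, hw, rfl⟩
          exact C.N_le hc (conj_mem_of_le_normalizer (stab_le_normalizer_N c) hg (hin A hA hAc hw))
        · rintro _ ⟨w, hw, rfl⟩
          refine ⟨?_, ?_⟩
          · rw [← map_mul, (hA.2 w hw).1, map_one]
          · rintro _ ⟨u, hu, rfl⟩
            rw [← map_mul, (hA.2 w hw).2 u hu, map_mul]
      | one => simp
      | mul y w _ _ hy hw =>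
        rw [show g * (y * w) * g⁻¹ = (g * y * g⁻¹) * (g * w * g⁻¹) by group]
        exact mul_mem hy hw
      | inv y _ hy =>
        rw [show g * y⁻¹ * g⁻¹ = (g * y * g⁻¹)⁻¹ by group]
        exact inv_mem hy
    obtain ⟨c, hne, hc⟩ := C.exists_mate hP
    obtain ⟨g, hg, hgP⟩ := C.flag_trans hP hc
    have hin : ∀ A ∈ 𝒜, Nat.card A = Nat.card M → A ≤ N q c := by
      intro A hA hAc x hx
      have h1 : cj g⁻¹ A ∈ 𝒜 := by
        refine ⟨?_, ?_⟩
        · have h2 := Subgroup.map_mono (f := (MulAut.conj g⁻¹).toMonoidHom) hA.1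
          change cj g⁻¹ A ≤ cj g⁻¹ P at h2
          refine h2.trans_eq ?_
          conv_lhs => rw [← hgP, cj_cj, inv_mul_cancel, cj_one]
        · rintro _ ⟨w, hw, rfl⟩
          refine ⟨?_, ?_⟩
          · rw [← map_mul, (hA.2 w hw).1, map_one]
          · rintro _ ⟨u, hu, rfl⟩
            rw [← map_mul, (hA.2 w hw).2 u hu, map_mul]
      have h2 := conj_mem_N g (hcon _ h1 ((card_cj _ _).trans hAc) (conj_mem_cj (g := g⁻¹) hx))
      rw [hg] at h2
      simpa [mul_assoc] using h2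
    have hJP : J ≤ P := by
      refine (Subgroup.closure_le _).mpr ?_
      rintro x ⟨A, hA, _, hx⟩
      exact hA.1 hx
    have hJb := C.eq_bot hne (hJP.trans hP.1) (key a hP hcon) (key c hc hin)
    have hMb : M = ⊥ := le_bot_iff.mp (hJb ▸ fun x hx => Subgroup.subset_closure ⟨M, hM, rfl, hx⟩)
    have h1 := hmax _ hA0
    simp only [hMb, Subgroup.card_bot] at h1
    exact C.Z_ne_bot hP (Subgroup.card_le_one_iff_eq_bot _ |>.mp h1)
  obtain ⟨g, hgA, hgN⟩ := SetLike.not_le_iff_exists.mp hAN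
  set I : Subgroup G := A ⊓ N q a with hI
  set W : Subgroup G := V q a with hW
  have hcm : ∀ (x : I) (y : W), Commute (x : G) (y : G) := fun x y => C.N_comm x.2.2 y.2
  set f : I × W →* G := MonoidHom.noncommCoprod I.subtype W.subtype hcm with hf
  have hfx : ∀ p : I × W, f p = (p.1 : G) * (p.2 : G) := fun p => rfl
  have hR : Nat.card f.range ≤ Nat.card A := by
    refine le_of_le_of_eq (hmax f.range ⟨?_, ?_⟩) hAc.symm
    · rintro _ ⟨p, rfl⟩
      exact mul_mem (C.N_le hP p.1.2.2) (C.N_le hP (C.V_le_N hB a p.2.2))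
    · rintro _ ⟨p, rfl⟩
      refine ⟨?_, ?_⟩
      · rw [← map_mul]
        have : p * p = 1 := by
          refine Prod.ext (Subtype.ext ?_) (Subtype.ext ?_)
          · exact (hA.2 _ p.1.2.1).1
          · exact C.V_sq hB p.2.2
        rw [this, map_one]
      · rintro _ ⟨r, rfl⟩
        rw [← map_mul, ← map_mul]
        congr 1
        refine Prod.ext (Subtype.ext ?_) (Subtype.ext ?_)
        · exact (hA.2 _ p.1.2.1).2 _ r.1.2.1
        · exact C.V_comm hB p.2.2 r.2.2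
  have hker : Nat.card f.ker ≤ Nat.card (A ⊓ W : Subgroup G) := by
    refine Nat.card_le_card_of_injective (fun p => ⟨((p : I × W).2 : G), ?_, (p : I × W).2.2⟩) ?_
    · have h1 : (((p : I × W).1 : G) * ((p : I × W).2 : G)) = 1 := (hfx _).symm.trans p.2
      rw [SetLike.mem_coe, ← inv_eq_of_mul_eq_one_right h1]
      exact A.inv_mem (p : I × W).1.2.1
    · intro p r hpr
      replace hpr := congrArg Subtype.val hpr
      simp only at hpr
      have h1 : (((p : I × W).1 : G) * ((p : I × W).2 : G)) = 1 := (hfx _).symm.trans p.2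
      have h2 : (((r : I × W).1 : G) * ((r : I × W).2 : G)) = 1 := (hfx _).symm.trans r.2
      refine Subtype.ext (Prod.ext (Subtype.ext ?_) (Subtype.ext hpr))
      rw [eq_inv_of_mul_eq_one_left h1, eq_inv_of_mul_eq_one_left h2, hpr]
  have hcard : Nat.card f.ker * Nat.card f.range = Nat.card I * Nat.card W := by
    rw [← Subgroup.index_ker, Subgroup.card_mul_index, Nat.card_prod]
  have hAI : Nat.card A ≤ 2 * Nat.card I := by
    have h1 := card_mul_relIndex (inf_le_left : I ≤ A)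
    have h2 := card_mul_relIndex (C.N_le hP)
    have h3 : (N q a : Subgroup G).relIndex P = 2 := by
      rw [C.card_line hP, mul_comm 2] at h2
      exact Nat.eq_of_mul_eq_mul_left Nat.card_pos h2
    have h4 : I.relIndex A ≤ 2 := by
      rw [hI, Subgroup.inf_relIndex_left]
      exact h3 ▸ Subgroup.relIndex_le_of_le_right hA.1 (by omega)
    calc Nat.card A = Nat.card I * I.relIndex A := h1.symm
      _ ≤ Nat.card I * 2 := Nat.mul_le_mul_left _ h4
      _ = 2 * Nat.card I := mul_comm _ _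
  have hle : Nat.card W ≤ 2 * Nat.card (A ⊓ W : Subgroup G) := by
    have h1 : Nat.card I * Nat.card W ≤ Nat.card I * (2 * Nat.card (A ⊓ W : Subgroup G)) := by
      rw [← hcard]
      calc Nat.card f.ker * Nat.card f.range ≤ Nat.card (A ⊓ W : Subgroup G) * (2 * Nat.card I) :=
            Nat.mul_le_mul hker (hR.trans hAI)
        _ = _ := by ring
    exact Nat.le_of_mul_le_mul_left h1 Nat.card_pos
  have hAZ : A ⊓ W ≤ Z P := fun v hv =>
    C.mem_Z_of_comm hB hP hv.2 (hA.1 hgA) hgN ((hA.2 g hgA).2 v hv.1)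
  have h1 := card_mul_relIndex (Z_le_V hP : Z P ≤ W)
  have h2 : (Z P).relIndex W ≠ 1 := by
    intro h
    refine hgN (C.mem_N_of_comm hB (hP.1 (hA.1 hgA)) fun v hv => ?_)
    exact (Subgroup.relIndex_eq_one.mp h hv).2.2 g (hA.1 hgA)
  have h3 : (Z P).relIndex W ≤ 2 := by
    have := hle.trans (Nat.mul_le_mul_left 2 (Subgroup.card_le_of_le hAZ))
    rw [← h1, mul_comm 2] at this
    exact Nat.le_of_mul_le_mul_left this Nat.card_pos
  have h4 : (Z P).relIndex W ≠ 0 := fun h => by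
    rw [h, mul_zero] at h1
    exact absurd h1.symm Nat.card_pos.ne'
  rw [← h1, show (Z P).relIndex W = 2 by omega, mul_comm]

theorem Z_mul_mem (hB : InN G Ω q) {a : Ω} {P : Subgroup G} (hP : P ∈ L q a) {v w : G}
    (hv : v ∈ (V q a : Subgroup G)) (hw : w ∈ (V q a : Subgroup G)) (hv' : v ∉ Z P) (hw' : w ∉ Z P) :
    v * w ∈ Z P :=
  mul_mem_two (Z_le_V hP) (C.card_V hB hP) hv hw hv' hw'

theorem Cp_le_Z (hB : InN G Ω q) {a : Ω} {P : Subgroup G} (hP : P ∈ L q a) :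
    (Cp q a : Subgroup G) ≤ Z P := by
  intro x hx
  rw [mem_Cp] at hx
  exact ⟨C.N_le hP (C.V_le_N hB a hx.1), C.V_sq hB hx.1, fun y hy => hx.2 y (hP.1 hy)⟩

theorem Z_inf (hB : InN G Ω q) {a : Ω} {P P' : Subgroup G} (hP : P ∈ L q a) (hP' : P' ∈ L q a)
    (hne : P' ≠ P) : Z P ⊓ Z P' = Cp q a := by
  refine le_antisymm (fun x hx => ?_) (le_inf (C.Cp_le_Z hB hP) (C.Cp_le_Z hB hP'))
  refine mem_Cp.mpr ⟨Z_le_V hP hx.1, fun g hg => ?_⟩
  have hle : stabilizer G a ≤ Subgroup.centralizer ({x} : Set G) := by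
    rw [← C.sup_eq hP hP' hne]
    refine sup_le (fun y hy => ?_) (fun y hy => ?_) <;> rw [Subgroup.mem_centralizer_singleton_iff]
    · exact hx.1.2.2 y hy
    · exact hx.2.2.2 y hy
  exact Subgroup.mem_centralizer_singleton_iff.mp (hle hg)

theorem Z_inj (hB : InN G Ω q) {a : Ω} {P P' : Subgroup G} (hP : P ∈ L q a) (hP' : P' ∈ L q a)
    (h : Z P' = Z P) : P' = P := by
  by_contra hne
  have h1 := C.Z_inf hB hP hP' hne
  rw [h, inf_idem] at h1
  refine C.Z_not_normal hP (le_normalizer_of fun g hg x hx => ?_)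
  rw [h1] at hx ⊢
  rwa [(mem_Cp.mp hx).2 g hg, mul_inv_cancel_right]

theorem exists_not_Z (hB : InN G Ω q) {a : Ω} {P : Subgroup G} (hP : P ∈ L q a) :
    ∃ v ∈ (V q a : Subgroup G), v ∉ Z P := by
  by_contra h
  push Not at h
  have h1 : (V q a : Subgroup G) = Z P := le_antisymm h (Z_le_V hP)
  have h2 := C.card_V hB hP
  rw [h1] at h2
  have : 0 < Nat.card (Z P) := Nat.card_pos
  omega

theorem card_Z (hB : InN G Ω q) {a : Ω} {P : Subgroup G} (hP : P ∈ L q a) :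
    Nat.card (Z P) = 2 * Nat.card (Cp q a : Subgroup G) := by
  obtain ⟨P', hP', hne⟩ := C.exists_other hP
  have hsame : Nat.card (Z P') = Nat.card (Z P) := by
    have h1 := C.card_V hB hP
    have h2 := C.card_V hB hP'
    omega
  obtain ⟨y, hy, hy'⟩ : ∃ y ∈ Z P, y ∉ Z P' := by
    by_contra h
    push Not at h
    exact hne (C.Z_inj hB hP hP' (Subgroup.eq_of_le_of_card_ge h hsame.le).symm)
  have hle := C.Z_inf hB hP hP' hne
  have h1 := card_mul_relIndex (C.Cp_le_Z hB hP)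
  have h2 : (Cp q a : Subgroup G).relIndex (Z P) = 2 := by
    change ((Cp q a : Subgroup G).subgroupOf (Z P)).index = 2
    refine Subgroup.index_eq_two_iff.mpr ⟨⟨y, hy⟩, fun b => ?_⟩
    rw [Subgroup.mem_subgroupOf, Subgroup.mem_subgroupOf, Subgroup.coe_mul, ← hle,
      Subgroup.mem_inf, Subgroup.mem_inf]
    by_cases hb : (b : G) ∈ Z P'
    · refine Or.inr ⟨⟨b.2, hb⟩, fun h => hy' ((Z P').mul_mem_cancel_left hb |>.mp h.2)⟩
    · exact Or.inl ⟨⟨mul_mem b.2 hy, C.Z_mul_mem hB hP' (Z_le_V hP b.2) (Z_le_V hP hy) hb hy'⟩,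
        fun h => hb h.2⟩
  rw [h2] at h1
  omega

theorem Cp_inf (hB : InN G Ω q) {a c : Ω} (hne : a ≠ c) :
    (Cp q a : Subgroup G) ⊓ Cp q c = ⊥ := by
  refine C.eq_bot hne (inf_le_left.trans (inf_le_left.trans (C.V_le_stab hB a))) ?_ ?_
  all_goals refine le_normalizer_of fun g hg x hx => ?_
  · rwa [(mem_Cp.mp hx.1).2 g hg, mul_inv_cancel_right]
  · rwa [(mem_Cp.mp hx.2).2 g hg, mul_inv_cancel_right]

theorem card_Cp_le (hB : InN G Ω q) (a : Ω) : Nat.card (Cp q a : Subgroup G) ≤ 2 := by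
  obtain ⟨P, hP⟩ := C.exists_line a
  obtain ⟨c, hne, hc⟩ := C.exists_mate hP
  have h1 := C.card_Z hB hP
  have h2 := C.card_Z hB hc
  have hca : Nat.card (Cp q c : Subgroup G) = Nat.card (Cp q a : Subgroup G) := by omega
  have hinf := C.Cp_inf hB hne
  have hinj : Nat.card (↥(Cp q a : Subgroup G) × ↥(Cp q c : Subgroup G)) ≤ Nat.card (Z P) := by
    refine Nat.card_le_card_of_injective
      (fun p => ⟨(p.1 : G) * (p.2 : G), mul_mem (C.Cp_le_Z hB hP p.1.2) (C.Cp_le_Z hB hc p.2.2)⟩) ?_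
    intro p r hpr
    replace hpr := congrArg Subtype.val hpr
    simp only at hpr
    have h3 : (r.1 : G)⁻¹ * p.1 = r.2 * (p.2 : G)⁻¹ := by
      calc (r.1 : G)⁻¹ * p.1 = (r.1 : G)⁻¹ * (p.1 * p.2) * (p.2 : G)⁻¹ := by group
        _ = (r.1 : G)⁻¹ * (r.1 * r.2) * (p.2 : G)⁻¹ := by rw [hpr]
        _ = _ := by group
    have h4 : (r.1 : G)⁻¹ * p.1 ∈ (Cp q a : Subgroup G) ⊓ Cp q c :=
      ⟨(Cp q a).mul_mem ((Cp q a).inv_mem r.1.2) p.1.2, h3 ▸ (Cp q c).mul_mem r.2.2 ((Cp q c).inv_mem p.2.2)⟩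
    rw [hinf, Subgroup.mem_bot] at h4
    have h5 : (p.1 : G) = r.1 := (inv_mul_eq_one.mp h4).symm
    refine Prod.ext (Subtype.ext h5) (Subtype.ext ?_)
    rw [h5] at hpr
    exact mul_left_cancel hpr
  rw [Nat.card_prod, hca, h1] at hinj
  exact Nat.le_of_mul_le_mul_right hinj Nat.card_pos

theorem zf_spec (hB : InN G Ω q) {a : Ω} {P : Subgroup G} (hP : P ∈ L q a) :
    IsZ q a P (zf q a P) := by
  apply Classical.epsilon_spec (p := IsZ q a P)
  obtain ⟨v, hv, hv'⟩ := C.exists_not_Z hB hP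
  obtain ⟨g, hg, hg'⟩ := C.exists_not_N hP
  refine ⟨g * v * g⁻¹ * v⁻¹, fun w hw hw' h hh hh' => ?_⟩
  have hn : g⁻¹ * h ∈ (N q a : Subgroup G) :=
    mul_mem_two (C.N_le hP) (C.card_line hP) (inv_mem hg) hh (fun h' => hg' (inv_mem_iff.mp h')) hh'
  have hy : v⁻¹ * w ∈ Z P :=
    C.Z_mul_mem hB hP (inv_mem hv) hw (fun h' => hv' (inv_mem_iff.mp h')) hw'
  obtain ⟨n, hn', rfl⟩ : ∃ n ∈ (N q a : Subgroup G), h = g * n := ⟨_, hn, by group⟩
  obtain ⟨y, hy', rfl⟩ : ∃ y ∈ Z P, w = v * y := ⟨_, hy, by group⟩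
  have h1 : n * (v * y) = (v * y) * n := C.N_comm hn' hw
  have h2 : g * y = y * g := hy'.2.2 g hg
  calc g * n * (v * y) * (g * n)⁻¹ * (v * y)⁻¹ = g * (n * (v * y)) * n⁻¹ * g⁻¹ * (v * y)⁻¹ := by group
    _ = g * v * g⁻¹ * ((g * y) * g⁻¹) * (v * y)⁻¹ := by rw [h1]; group
    _ = g * v * g⁻¹ * v⁻¹ := by rw [h2]; group

theorem zf_eq (hB : InN G Ω q) {a : Ω} {P : Subgroup G} (hP : P ∈ L q a) {v g : G}
    (hv : v ∈ (V q a : Subgroup G)) (hv' : v ∉ Z P) (hg : g ∈ P) (hg' : g ∉ (N q a : Subgroup G)) :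
    g * v * g⁻¹ * v⁻¹ = zf q a P :=
  C.zf_spec hB hP v hv hv' g hg hg'

theorem zf_mem (hB : InN G Ω q) {a : Ω} {P : Subgroup G} (hP : P ∈ L q a) : zf q a P ∈ Z P := by
  obtain ⟨v, hv, hv'⟩ := C.exists_not_Z hB hP
  obtain ⟨g, hg, hg'⟩ := C.exists_not_N hP
  rw [← C.zf_eq hB hP hv hv' hg hg']
  have h1 : g * v * g⁻¹ ∈ (V q a : Subgroup G) :=
    conj_mem_of_le_normalizer (stab_le_normalizer_V a) (hP.1 hg) hv
  have h2 : g * v * g⁻¹ ∉ Z P := by
    intro h
    refine hv' (C.mem_Z_of_comm hB hP hv hg hg' ?_)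
    have := h.2.2 g hg
    calc g * v = g⁻¹ * (g * (g * v * g⁻¹)) * g := by group
      _ = g⁻¹ * ((g * v * g⁻¹) * g) * g := by rw [this]
      _ = v * g := by group
  exact C.Z_mul_mem hB hP h1 (inv_mem hv) h2 (fun h => hv' (inv_mem_iff.mp h))

theorem zf_notin (hB : InN G Ω q) {a : Ω} {P : Subgroup G} (hP : P ∈ L q a) :
    zf q a P ∉ (Cp q a : Subgroup G) := by
  intro hz
  obtain ⟨P', hP', hne⟩ := C.exists_other hP
  obtain ⟨g, hg, hg'⟩ := C.exists_not_N hP
  obtain ⟨hL, hne1, hne2⟩ := C.swap hP hP' hne hg hg'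
  refine hne2 (C.Z_inj hB hP' hL ?_)
  have hle : Z (cj g P') ≤ Z P' := by
    rw [Z_cj]
    rintro _ ⟨v, hv, rfl⟩
    simp only [MulEquiv.coe_toMonoidHom, MulAut.conj_apply]
    by_cases hvP : v ∈ Z P
    · rw [hvP.2.2 g hg, mul_inv_cancel_right]
      exact hv
    · have := C.zf_eq hB hP (Z_le_V hP' hv) hvP hg hg'
      rw [show g * v * g⁻¹ = (g * v * g⁻¹ * v⁻¹) * v by group, this]
      exact mul_mem (C.Cp_le_Z hB hP' hz) hv
  refine Subgroup.eq_of_le_of_card_ge hle ?_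
  rw [Z_cj, card_cj]

theorem zf_ne_one (hB : InN G Ω q) {a : Ω} {P : Subgroup G} (hP : P ∈ L q a) : zf q a P ≠ 1 :=
  fun h => C.zf_notin hB hP (h ▸ one_mem _)

theorem zf_cj (hB : InN G Ω q) {a : Ω} {P : Subgroup G} (hP : P ∈ L q a) (h : G) :
    zf q (h • a) (cj h P) = h * zf q a P * h⁻¹ := by
  obtain ⟨v, hv, hv'⟩ := C.exists_not_Z hB hP
  obtain ⟨g, hg, hg'⟩ := C.exists_not_N hP
  have h1 : h * v * h⁻¹ ∉ Z (cj h P) := fun h' => hv' (by
    rw [Z_cj, mem_cj] at h'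
    simpa [mul_assoc] using h')
  have h2 : h * g * h⁻¹ ∉ (N q (h • a) : Subgroup G) := fun h' => hg' (by
    have := conj_mem_N h⁻¹ h'
    rw [inv_smul_smul] at this
    simpa [mul_assoc] using this)
  rw [← C.zf_eq hB hP hv hv' hg hg',
    ← C.zf_eq hB (cj_mem_L h hP) (conj_mem_V h hv) h1 (conj_mem_cj hg) h2]
  group

end Ctx

end Cfsg.Agent.SubThree
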